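import Cfsg.Agent.Lib.BN.Basic

/-!
The adjacency operators on the cosets of `B` attached to the Bruhat cells of a finite (B, N)-pair,
with their multiplication rules, and the averaging identity used for eigenvalue multiplicities.
-/

set_option autoImplicit false
set_option linter.unusedSectionVars false

open Matrix

namespace Cfsg.Agent.BN.FeitHigman

open Cfsg.Agent.BN.Basic

variable {G : Type*} [Group G] {P : Cfsg.BNPair G}

/-- The chambers: cosets of `B`. -/
abbrev Ch (P : Cfsg.BNPair G) := G ⧸ P.B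

/-- The Weyl distance relation. -/
def Rel (w : W P) (x y : Ch P) : Prop := x.out⁻¹ * y.out ∈ cell w

theorem rel_mk {w : W P} (g h : G) :
    Rel w (QuotientGroup.mk g) (QuotientGroup.mk h) ↔ g⁻¹ * h ∈ cell w := by
  obtain ⟨b, hb⟩ := QuotientGroup.mk_out_eq_mul P.B g
  obtain ⟨c, hc⟩ := QuotientGroup.mk_out_eq_mul P.B h
  rw [Rel, hb, hc]
  constructor
  · intro hx
    have := mul_right_cell (mul_left_cell b.2 hx) (inv_mem c.2)
    simpa [mul_assoc] using this
  · intro hx
    have := mul_right_cell (mul_left_cell (inv_mem b.2) hx) c.2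
    simpa [mul_assoc] using this

theorem rel_smul {w : W P} (g : G) (x y : Ch P) : Rel w (g • x) (g • y) ↔ Rel w x y := by
  induction x using QuotientGroup.induction_on with
  | H a =>
    induction y using QuotientGroup.induction_on with
    | H b =>
      rw [MulAction.Quotient.smul_mk, MulAction.Quotient.smul_mk, rel_mk, rel_mk]
      simp [mul_assoc]

theorem rel_one {x y : Ch P} : Rel (1 : W P) x y ↔ x = y := by
  induction x using QuotientGroup.induction_on with
  | H a =>
    induction y using QuotientGroup.induction_on with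
    | H b => rw [rel_mk, cell_one, QuotientGroup.eq]; rfl

theorem rel_inv {w : W P} {x y : Ch P} : Rel w⁻¹ x y ↔ Rel w y x := by
  constructor
  · intro h
    have := inv_mem_cell h
    simpa [Rel] using this
  · intro h
    have := inv_mem_cell h
    simpa [Rel] using this

theorem rel_unique {w w' : W P} {x y : Ch P} (h : Rel w x y) (h' : Rel w' x y) : w = w' :=
  cell_inj h h'

theorem rel_exists (x y : Ch P) : ∃ w : W P, Rel w x y := bruhat (P := P) (x.out⁻¹ * y.out)

theorem rel_trans_gen {s : P.S} {w : W P} {x y z : Ch P} (h : Rel (gen s) x y) (h' : Rel w y z) :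
    Rel (gen s * w) x z ∨ Rel w x z := by
  have := mul_cell h h'
  simpa [Rel, mul_assoc] using this

theorem rel_trans_of_le {s : P.S} {w : W P} {x y z : Ch P} (hle : len w ≤ len (gen s * w))
    (h : Rel (gen s) x y) (h' : Rel w y z) : Rel (gen s * w) x z := by
  have := mul_cell_of_le hle h h'
  simpa [Rel, mul_assoc] using this

theorem rel_gen_symm {s : P.S} {x y : Ch P} (h : Rel (gen s) x y) : Rel (gen s) y x := by
  rw [← gen_inv s, rel_inv]
  exact h

theorem exists_rel_split {s : P.S} {w : W P} {x z : Ch P} (h : Rel (gen s * w) x z) :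
    ∃ y, Rel (gen s) x y ∧ Rel w y z := by
  obtain ⟨n, hn, rfl⟩ := exists_mkW w
  rw [Rel, gen, ← mkW_mul (P.subset s.2) hn, cell_mkW] at h
  obtain ⟨b, hb, b', hb', he⟩ := mem_dc.1 h
  refine ⟨QuotientGroup.mk (x.out * (b * (s : G))), ?_, ?_⟩
  · nth_rw 1 [← x.out_eq]
    rw [rel_mk, inv_mul_cancel_left]
    exact mul_left_cell hb (mem_cell_gen s)
  · nth_rw 1 [← z.out_eq]
    rw [rel_mk]
    have : (x.out * (b * (s : G)))⁻¹ * z.out = n * b' := by
      rw [_root_.mul_inv_rev, mul_assoc, he]
      group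
    rw [this]
    exact mul_right_cell (mem_cell_mkW hn) hb'

theorem rel_mul_le {x y z : Ch P} : ∀ {w v : W P}, Rel w x y → Rel v y z →
    ∀ {u : W P}, Rel u x z → len u ≤ len w + len v := by
  intro w
  generalize hk : len w = k
  induction k generalizing w x y z with
  | zero =>
    intro v h h' u hu
    obtain rfl := eq_one_of_len_eq_zero hk
    obtain rfl := rel_one.1 h
    rw [rel_unique hu h']
    omega
  | succ k ih =>
    intro v h h' u hu
    obtain ⟨s, w', rfl, hw'⟩ := exists_gen_mul (w := w) (by rintro rfl; rw [len_one] at hk; omega)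
    obtain ⟨m, hm, hm'⟩ := exists_rel_split h
    obtain ⟨v', hv'⟩ := rel_exists m z
    have h1 := ih (by omega) hm' h' hv'
    have h2 := len_gen_mul_le s v'
    rcases rel_trans_gen hm hv' with h3 | h3 <;> rw [rel_unique hu h3] <;> omega

/-- The number of chambers adjacent to a given one through a generator. -/
noncomputable def qs (s : P.S) : ℕ :=
  Nat.card {y : Ch P // Rel (gen s) (QuotientGroup.mk (1 : G)) y}

section Finite

variable [Finite G]

theorem card_rel_gen (s : P.S) (x : Ch P) : Nat.card {y : Ch P // Rel (gen s) x y} = qs s := by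
  induction x using QuotientGroup.induction_on with
  | H a =>
    refine (Nat.card_congr ?_).symm
    refine (MulAction.toPerm a).subtypeEquiv fun y => ?_
    have h := rel_smul (w := gen s) a (QuotientGroup.mk (1 : G)) y
    rw [MulAction.Quotient.smul_mk, smul_eq_mul, mul_one] at h
    exact h.symm

theorem two_le_qs (s : P.S) : 2 ≤ qs s := by
  by_contra hlt
  have hsub : Subsingleton {y : Ch P // Rel (gen s) (QuotientGroup.mk (1 : G)) y} :=
    Finite.card_le_one_iff_subsingleton.1 (by change qs s ≤ 1; omega)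
  obtain ⟨b, hb, hb'⟩ := exists_conj_not_mem s
  apply hb'
  have h1 : Rel (gen s) (QuotientGroup.mk (1 : G)) (QuotientGroup.mk ((b : G) * s)) := by
    rw [rel_mk]; simpa using mul_left_cell hb (mem_cell_gen s)
  have h2 : Rel (gen s) (QuotientGroup.mk (1 : G)) (QuotientGroup.mk (s : G)) := by
    rw [rel_mk]; simpa using mem_cell_gen s
  have h3 := congrArg Subtype.val (hsub.allEq (⟨_, h2⟩ : {y // Rel _ _ y}) ⟨_, h1⟩)
  rw [QuotientGroup.eq] at h3
  have := mul_mem (P.sq_mem _ s.2) h3
  have e : (s : G) * s * ((s : G)⁻¹ * (b * s)) = (s : G) * b * s := by group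
  rwa [e] at this

open Classical in
/-- The adjacency operator of a Weyl group element. -/
noncomputable def adj (R : Type*) [Zero R] [One R] (w : W P) : Matrix (Ch P) (Ch P) R :=
  Matrix.of fun x y => if Rel w x y then 1 else 0

open Classical in
theorem adj_apply {R : Type*} [Zero R] [One R] (w : W P) (x y : Ch P) :
    adj R w x y = if Rel w x y then 1 else 0 := rfl

/-- The real adjacency operator. -/
noncomputable abbrev Tm (w : W P) : Matrix (Ch P) (Ch P) ℝ := adj ℝ w

open Classical in
theorem Tm_apply (w : W P) (x y : Ch P) : Tm w x y = if Rel w x y then 1 else 0 := rfl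

theorem Tm_nonneg (w : W P) (x y : Ch P) : 0 ≤ Tm w x y := by
  rw [Tm_apply]; split_ifs <;> norm_num

theorem Tm_eq_map (w : W P) : Tm w = (adj ℚ w).map (Rat.castHom ℝ) := by
  ext x y
  rw [Matrix.map_apply, Tm_apply, adj_apply]
  split_ifs <;> simp

theorem Tm_transpose (w : W P) : (Tm w)ᵀ = Tm w⁻¹ := by
  ext x y
  rw [transpose_apply, Tm_apply, Tm_apply]
  by_cases h : Rel w y x
  · rw [if_pos h, if_pos (rel_inv.2 h)]
  · rw [if_neg h, if_neg fun h' => h (rel_inv.1 h')]

theorem Tm_transpose_gen (s : P.S) : (Tm (gen s))ᵀ = Tm (gen s) := by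
  rw [Tm_transpose, gen_inv]

variable [Fintype (Ch P)] [DecidableEq (Ch P)]

theorem Tm_one : Tm (1 : W P) = 1 := by
  ext x y
  rw [Tm_apply, one_apply]
  simp only [rel_one]

theorem Tm_gen_row_sum (s : P.S) (x : Ch P) : ∑ y, Tm (gen s) x y = (qs s : ℝ) := by
  classical
  simp only [Tm_apply, Finset.sum_boole]
  rw [← card_rel_gen s x, Nat.card_eq_fintype_card, Fintype.card_subtype]

theorem Tm_gen_mul {s : P.S} {w : W P} (hlt : len w < len (gen s * w)) :
    Tm (gen s) * Tm w = Tm (gen s * w) := by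
  classical
  ext x z
  rw [mul_apply, Tm_apply (gen s * w)]
  simp only [Tm_apply, ite_mul, one_mul, zero_mul]
  by_cases h : Rel (gen s * w) x z
  · rw [if_pos h]
    obtain ⟨y, hy, hy'⟩ := exists_rel_split h
    rw [Finset.sum_eq_single y, if_pos hy, if_pos hy']
    · intro y' _ hne
      by_cases h1 : Rel (gen s) x y'
      · rw [if_pos h1, if_neg]
        intro h2
        rcases rel_trans_gen (rel_gen_symm h1) hy with h3 | h3
        · rw [gen_mul_self, rel_one] at h3
          exact hne h3
        · exact gen_ne_one s (mul_eq_right.1 (rel_unique (rel_trans_of_le hlt.le h3 hy') h2))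
      · rw [if_neg h1]
    · simp
  · rw [if_neg h]
    refine Finset.sum_eq_zero fun y _ => ?_
    by_cases h1 : Rel (gen s) x y
    · rw [if_pos h1, if_neg]
      exact fun h2 => h (rel_trans_of_le hlt.le h1 h2)
    · rw [if_neg h1]

theorem Tm_gen_sq (s : P.S) :
    Tm (gen s) * Tm (gen s) = ((qs s : ℝ) - 1) • Tm (gen s) + (qs s : ℝ) • (1 : Matrix _ _ ℝ) := by
  classical
  ext x z
  rw [mul_apply, Matrix.add_apply, Matrix.smul_apply, Matrix.smul_apply, one_apply, smul_eq_mul, smul_eq_mul]
  by_cases hxz : x = z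
  · subst hxz
    have hno : ¬ Rel (gen s) x x := fun h => gen_ne_one s (rel_unique h (rel_one.2 rfl))
    rw [if_pos rfl, Tm_apply (gen s) x x, if_neg hno, ← Tm_gen_row_sum s x, mul_one, mul_zero,
      zero_add]
    refine Finset.sum_congr rfl fun y _ => ?_
    simp only [Tm_apply]
    by_cases h1 : Rel (gen s) x y
    · rw [if_pos h1, if_pos (rel_gen_symm h1), mul_one]
    · rw [if_neg h1, zero_mul]
  · rw [if_neg hxz, mul_zero, add_zero]
    by_cases h : Rel (gen s) x z
    · rw [Tm_apply (gen s) x z, if_pos h, mul_one]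
      have key : ∀ y, Tm (gen s) x y * Tm (gen s) y z =
          Tm (gen s) x y - if y = z then 1 else 0 := by
        intro y
        simp only [Tm_apply]
        by_cases hy : y = z
        · subst hy
          rw [if_pos h, if_pos rfl, if_neg fun h' => gen_ne_one s (rel_unique h' (rel_one.2 rfl))]
          simp
        · rw [if_neg hy, sub_zero]
          by_cases h1 : Rel (gen s) x y
          · rw [if_pos h1, if_pos, mul_one]
            rcases rel_trans_gen (rel_gen_symm h1) h with h3 | h3
            · rw [gen_mul_self, rel_one] at h3; exact absurd h3 hy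
            · exact h3
          · rw [if_neg h1, zero_mul]
      rw [Finset.sum_congr rfl fun y _ => key y, Finset.sum_sub_distrib, Tm_gen_row_sum,
        Finset.sum_ite_eq']
      simp
    · rw [Tm_apply (gen s) x z, if_neg h, mul_zero]
      refine Finset.sum_eq_zero fun y _ => ?_
      simp only [Tm_apply]
      by_cases h1 : Rel (gen s) x y
      · rw [if_pos h1, one_mul, if_neg]
        intro h2
        rcases rel_trans_gen h1 h2 with h3 | h3
        · rw [gen_mul_self, rel_one] at h3; exact hxz h3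
        · exact h h3
      · rw [if_neg h1, zero_mul]

theorem Tm_gen_mul_of_gt {s : P.S} {w : W P} (hlt : len (gen s * w) < len w) :
    Tm (gen s) * Tm w = (qs s : ℝ) • Tm (gen s * w) + ((qs s : ℝ) - 1) • Tm w := by
  have h := Tm_gen_mul (s := s) (w := gen s * w) (by rwa [gen_mul_cancel])
  rw [gen_mul_cancel] at h
  conv_lhs => rw [← h, ← Matrix.mul_assoc, Tm_gen_sq, Matrix.add_mul, Matrix.smul_mul,
    Matrix.smul_mul, Matrix.one_mul, h]
  rw [add_comm]

theorem trace_Tm {w : W P} (hw : w ≠ 1) : (Tm w).trace = 0 :=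
  Finset.sum_eq_zero fun x _ => by
    rw [diag_apply, Tm_apply, if_neg fun h => hw (rel_unique h (rel_one.2 rfl))]

/-- The weight of a Weyl group element: the size of a sphere. -/
noncomputable def qW (w : W P) : ℝ := ∑ y, Tm w (QuotientGroup.mk (1 : G)) y

theorem qW_const (w : W P) (x : Ch P) : ∑ y, Tm w x y = qW w := by
  induction x using QuotientGroup.induction_on with
  | H a =>
    refine (Fintype.sum_equiv (MulAction.toPerm a) _ _ fun y => ?_).symm
    have h := rel_smul (w := w) a (QuotientGroup.mk (1 : G)) y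
    rw [MulAction.Quotient.smul_mk, smul_eq_mul, mul_one] at h
    simp only [Tm_apply, MulAction.toPerm_apply]
    classical exact if_congr h.symm rfl rfl

theorem qW_one : qW (1 : W P) = 1 := by
  rw [qW, Tm_one]
  simp [Matrix.one_apply]

theorem qW_gen_mul {s : P.S} {w : W P} (hlt : len w < len (gen s * w)) :
    qW (gen s * w) = qs s * qW w := by
  rw [qW, ← Tm_gen_mul hlt]
  simp only [mul_apply]
  rw [Finset.sum_comm]
  simp only [← Finset.mul_sum, qW_const, ← Finset.sum_mul]
  rw [← Tm_gen_row_sum s (QuotientGroup.mk (1 : G)), ← qW_const]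

theorem qW_pos (w : W P) : 0 < qW w := by
  obtain ⟨x, hx⟩ := cell_nonempty w
  have h : Tm w (QuotientGroup.mk (1 : G)) (QuotientGroup.mk x) = 1 := by
    rw [Tm_apply, if_pos]; rw [rel_mk]; simpa using hx
  calc (0 : ℝ) < 1 := one_pos
    _ = Tm w (QuotientGroup.mk (1 : G)) (QuotientGroup.mk x) := h.symm
    _ ≤ qW w := Finset.single_le_sum (fun y _ => Tm_nonneg w _ y) (Finset.mem_univ _)

theorem qW_inv (w : W P) : qW w⁻¹ = qW w := by
  have hN : (Fintype.card (Ch P) : ℝ) ≠ 0 := by
    haveI : Nonempty (Ch P) := ⟨QuotientGroup.mk (1 : G)⟩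
    exact_mod_cast Fintype.card_ne_zero
  refine mul_left_cancel₀ hN ?_
  have e : ∀ v : W P, (Fintype.card (Ch P) : ℝ) * qW v = ∑ x, ∑ y, Tm v x y := by
    intro v
    simp [qW_const]
  rw [e, e, ← Tm_transpose]
  exact Finset.sum_comm

variable [Fintype (W P)]

/-- The invariant operator attached to a pair of vectors. -/
noncomputable def avg (z z' : Ch P → ℝ) : Matrix (Ch P) (Ch P) ℝ :=
  ∑ w : W P, ((z ⬝ᵥ (Tm w *ᵥ z')) / qW w) • Tm w

theorem avg_add (z₁ z₂ z' : Ch P → ℝ) : avg (z₁ + z₂) z' = avg z₁ z' + avg z₂ z' := by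
  simp [avg, add_dotProduct, add_div, add_smul, Finset.sum_add_distrib]

theorem avg_smul (c : ℝ) (z z' : Ch P → ℝ) : avg (c • z) z' = c • avg z z' := by
  simp only [avg, smul_dotProduct, Finset.smul_sum, smul_smul, smul_eq_mul, mul_div_assoc]

theorem dot_gen_mulVec (s : P.S) (z z' : Ch P → ℝ) (w : W P) :
    (Tm (gen s) *ᵥ z) ⬝ᵥ (Tm w *ᵥ z') = z ⬝ᵥ ((Tm (gen s) * Tm w) *ᵥ z') := by
  rw [← mulVec_mulVec]
  conv_rhs => rw [dotProduct_mulVec, ← mulVec_transpose, Tm_transpose_gen]

theorem gen_mul_avg (s : P.S) (z z' : Ch P → ℝ) :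
    Tm (gen s) * avg z z' = avg (Tm (gen s) *ᵥ z) z' := by
  classical
  obtain ⟨q, hq⟩ : ∃ q : ℝ, q = qs s := ⟨_, rfl⟩
  obtain ⟨g, hg⟩ : ∃ g : W P → ℝ, ∀ w, g w = z ⬝ᵥ (Tm w *ᵥ z') := ⟨_, fun _ => rfl⟩
  have hup : ∀ w : W P, ¬ len w < len (gen s * w) → len (gen s * w) < len w := fun w h => by
    have := len_gen_mul_ne s w; omega
  have hmul : ∀ w : W P, Tm (gen s) * Tm w = (if len w < len (gen s * w) then 1 else q) •
      Tm (gen s * w) + (if len w < len (gen s * w) then 0 else q - 1) • Tm w := by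
    intro w
    by_cases h : len w < len (gen s * w)
    · rw [if_pos h, if_pos h, Tm_gen_mul h, one_smul, zero_smul, add_zero]
    · rw [if_neg h, if_neg h, hq, Tm_gen_mul_of_gt (hup w h)]
  calc Tm (gen s) * avg z z'
      = ∑ w, ((g w / qW w * if len w < len (gen s * w) then 1 else q) • Tm (gen s * w) +
          (g w / qW w * if len w < len (gen s * w) then 0 else q - 1) • Tm w) := by
        rw [avg, Finset.mul_sum]
        refine Finset.sum_congr rfl fun w _ => ?_
        rw [Matrix.mul_smul, hmul, smul_add, smul_smul, smul_smul, hg]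
    _ = ∑ v, ((g (gen s * v) / qW (gen s * v) *
            if len (gen s * v) < len v then 1 else q) +
          (g v / qW v * if len v < len (gen s * v) then 0 else q - 1)) • Tm v := by
        simp only [add_smul, Finset.sum_add_distrib]
        congr 1
        refine Fintype.sum_equiv (Equiv.mulLeft (gen s)) _ _ fun w => ?_
        simp only [Equiv.coe_mulLeft, gen_mul_cancel]
    _ = avg (Tm (gen s) *ᵥ z) z' := by
        rw [avg]
        refine Finset.sum_congr rfl fun v _ => ?_
        congr 1
        have hd : (Tm (gen s) *ᵥ z) ⬝ᵥ (Tm v *ᵥ z') =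
            (if len v < len (gen s * v) then 1 else q) * g (gen s * v) +
              (if len v < len (gen s * v) then 0 else q - 1) * g v := by
          rw [dot_gen_mulVec, hmul, add_mulVec, smul_mulVec, smul_mulVec,
            dotProduct_add, dotProduct_smul, dotProduct_smul, hg, hg]
          rfl
        rw [hd]
        have hv := (qW_pos v).ne'
        have hsv := (qW_pos (gen s * v)).ne'
        by_cases h : len v < len (gen s * v)
        · have e := qW_gen_mul h
          rw [← hq] at e
          rw [if_neg (by omega), if_pos h, if_pos h, e]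
          have : q ≠ 0 := by rw [e] at hsv; exact (mul_ne_zero_iff.1 hsv).1
          field_simp
        · have e := qW_gen_mul (s := s) (w := gen s * v) (by rw [gen_mul_cancel]; exact hup v h)
          rw [gen_mul_cancel, ← hq] at e
          rw [if_pos (hup v h), if_neg h, if_neg h, e]
          have : q ≠ 0 := by rw [e] at hv; exact (mul_ne_zero_iff.1 hv).1
          field_simp

theorem avg_transpose (z : Ch P → ℝ) : (avg z z)ᵀ = avg z z := by
  rw [avg, transpose_sum]
  refine Fintype.sum_equiv (Equiv.inv (W P)) _ _ fun w => ?_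
  have h : z ⬝ᵥ (Tm w⁻¹ *ᵥ z) = z ⬝ᵥ (Tm w *ᵥ z) := by
    rw [← Tm_transpose, mulVec_transpose, ← dotProduct_mulVec_comm_aux]
  rw [transpose_smul, Tm_transpose]
  simp only [Equiv.inv_apply, qW_inv, h]
where
  dotProduct_mulVec_comm_aux {m : Type _} [Fintype m] {z : m → ℝ} {A : Matrix m m ℝ} :
      z ⬝ᵥ (A *ᵥ z) = z ⬝ᵥ (z ᵥ* A) := by
    rw [dotProduct_mulVec, dotProduct_comm]

theorem trace_avg (z : Ch P → ℝ) : (avg z z).trace = Fintype.card (Ch P) * (z ⬝ᵥ z) := by
  classical
  rw [avg, trace_sum, Finset.sum_eq_single (1 : W P)]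
  · rw [trace_smul, Tm_one, one_mulVec, qW_one, trace_one, smul_eq_mul]
    ring
  · intro w _ hw
    rw [trace_smul, trace_Tm hw, smul_zero]
  · simp

/-- Support in cells of bounded length. -/
def Supp (k : ℕ) (A : Matrix (Ch P) (Ch P) ℝ) : Prop :=
  ∀ x y, A x y ≠ 0 → ∀ w : W P, Rel w x y → len w ≤ k

omit [Fintype (Ch P)] [DecidableEq (Ch P)] [Fintype (W P)] in
theorem supp_Tm (w : W P) {k : ℕ} (h : len w ≤ k) : Supp k (Tm w) := by
  intro x y hne v hv
  rw [Tm_apply] at hne
  by_cases hr : Rel w x y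
  · rwa [rel_unique hv hr]
  · simp [hr] at hne

omit [Fintype (Ch P)] [DecidableEq (Ch P)] [Fintype (W P)] in
theorem Supp.add {k : ℕ} {A B : Matrix (Ch P) (Ch P) ℝ} (hA : Supp k A) (hB : Supp k B) :
    Supp k (A + B) := by
  intro x y hne w hw
  by_cases h : A x y = 0
  · exact hB x y (by simpa [h] using hne) w hw
  · exact hA x y h w hw

omit [Fintype (Ch P)] [DecidableEq (Ch P)] [Fintype (W P)] in
theorem Supp.smul {k : ℕ} {A : Matrix (Ch P) (Ch P) ℝ} (c : ℝ) (hA : Supp k A) :
    Supp k (c • A) := by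
  intro x y hne w hw
  exact hA x y (fun h => hne (by simp [h])) w hw

omit [Fintype (Ch P)] [DecidableEq (Ch P)] [Fintype (W P)] in
theorem Supp.mono {k l : ℕ} {A : Matrix (Ch P) (Ch P) ℝ} (hkl : k ≤ l) (hA : Supp k A) :
    Supp l A := fun x y hne w hw => (hA x y hne w hw).trans hkl

omit [DecidableEq (Ch P)] [Fintype (W P)] in
theorem Supp.mul {k l : ℕ} {A B : Matrix (Ch P) (Ch P) ℝ} (hA : Supp k A) (hB : Supp l B) :
    Supp (k + l) (A * B) := by
  intro x z hne w hw
  rw [mul_apply] at hne
  obtain ⟨y, -, hy⟩ := Finset.exists_ne_zero_of_sum_ne_zero hne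
  obtain ⟨w₁, h₁⟩ := rel_exists x y
  obtain ⟨w₂, h₂⟩ := rel_exists y z
  have := rel_mul_le h₁ h₂ hw
  have := hA x y (left_ne_zero_of_mul hy) w₁ h₁
  have := hB y z (right_ne_zero_of_mul hy) w₂ h₂
  omega

omit [Fintype (W P)] in
theorem Supp.pow {k : ℕ} {A : Matrix (Ch P) (Ch P) ℝ} (hA : Supp k A) :
    ∀ i : ℕ, Supp (k * i) (A ^ i)
  | 0 => by
    rw [pow_zero, ← Tm_one]
    exact supp_Tm _ (by rw [len_one]; omega)
  | i + 1 => by
    rw [pow_succ, Nat.mul_succ]
    exact (Supp.pow hA i).mul hA

end Finite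

end Cfsg.Agent.BN.FeitHigman
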