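import Cfsg.Agent.Lib.BN.FeitHigman.Adjacency

/-!
The Weyl group of a (B, N)-pair of rank two is dihedral: normal forms, lengths, and the products of
adjacency operators along alternating words.
-/

set_option autoImplicit false
set_option linter.unusedSectionVars false

open scoped Matrix

namespace Cfsg.Agent.BN.FeitHigman

open Cfsg.Agent.BN.Basic

variable {G : Type*} [Group G] {P : Cfsg.BNPair G}

/-- Two generators exhausting the distinguished set. -/
structure IsPair (s t : P.S) : Prop where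
  ne : s ≠ t
  cover : ∀ x : P.S, x = s ∨ x = t

/-- The rotation. -/
def rot (s t : P.S) : W P := gen t * gen s

theorem gen_mul_rot_zpow (s t : P.S) (i : ℤ) :
    gen t * rot s t ^ i = rot s t ^ (-i) * gen t := by
  have h : SemiconjBy (gen t) (rot s t) (rot s t)⁻¹ := by
    show gen t * rot s t = (rot s t)⁻¹ * gen t
    rw [rot, _root_.mul_inv_rev, gen_inv, gen_inv, mul_assoc (gen s), gen_mul_self, mul_one,
      gen_mul_cancel]
  have := h.zpow_right i
  rw [SemiconjBy, inv_zpow'] at this
  exact this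

theorem gen_left_eq (s t : P.S) : gen s = gen t * rot s t := by
  rw [rot, gen_mul_cancel]

theorem gen_left_eq' (s t : P.S) : gen s = (rot s t)⁻¹ * gen t := by
  rw [rot, _root_.mul_inv_rev, gen_inv, gen_inv, mul_assoc, gen_mul_self, mul_one]

theorem gen_left_mul_rot_zpow (s t : P.S) (i : ℤ) :
    gen s * rot s t ^ i = rot s t ^ (-i - 1) * gen t := by
  rw [gen_left_eq s t, mul_assoc, ← zpow_one_add, gen_mul_rot_zpow]
  congr 2
  ring

/-- Elements with an expression of length at most `m`. -/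
theorem wordW_shape {s t : P.S} (h : IsPair s t) (L : List P.S) :
    (∃ i : ℤ, 2 * |i| ≤ (L.length : ℤ) ∧ wordW L = rot s t ^ i) ∨
    (∃ i : ℤ, |2 * i + 1| ≤ (L.length : ℤ) ∧ wordW L = rot s t ^ i * gen t) := by
  induction L with
  | nil => exact Or.inl ⟨0, by simp, by simp⟩
  | cons x L ih =>
    simp only [wordW_cons, List.length_cons, Nat.cast_add, Nat.cast_one]
    rcases h.cover x with rfl | rfl <;> rcases ih with ⟨i, hi, he⟩ | ⟨i, hi, he⟩ <;> rw [he]
    · refine Or.inr ⟨-i - 1, ?_, gen_left_mul_rot_zpow _ _ i⟩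
      rw [show 2 * (-i - 1) + 1 = -(2 * i + 1) by ring, abs_neg]
      have := abs_add_le (2 * i) 1
      rw [abs_mul] at this
      norm_num at this
      linarith
    · refine Or.inl ⟨-i - 1, ?_, ?_⟩
      · rw [show -i - 1 = -(i + 1) by ring, abs_neg]
        have h1 := abs_add_le (2 * i + 1) 1
        rw [show 2 * i + 1 + 1 = 2 * (i + 1) by ring, abs_mul] at h1
        norm_num at h1
        linarith
      · rw [← mul_assoc, gen_left_mul_rot_zpow, mul_gen_cancel]
    · refine Or.inr ⟨-i, ?_, gen_mul_rot_zpow _ _ i⟩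
      rw [show 2 * -i + 1 = -(2 * i) + 1 by ring]
      have := abs_add_le (-(2 * i)) 1
      rw [abs_neg, abs_mul] at this
      norm_num at this
      linarith
    · refine Or.inl ⟨-i, ?_, ?_⟩
      · rw [abs_neg]
        have h1 := abs_sub (2 * i + 1) 1
        rw [show 2 * i + 1 - 1 = 2 * i by ring, abs_mul] at h1
        norm_num at h1
        linarith
      · rw [← mul_assoc, gen_mul_rot_zpow, mul_gen_cancel]

variable {s t : P.S}

theorem eq_rot_zpow_or (h : IsPair s t) (w : W P) :
    ∃ i : ℤ, w = rot s t ^ i ∨ w = rot s t ^ i * gen t := by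
  obtain ⟨L, rfl⟩ := exists_word w
  rcases wordW_shape h L with ⟨i, -, hi⟩ | ⟨i, -, hi⟩
  exacts [⟨i, Or.inl hi⟩, ⟨i, Or.inr hi⟩]

theorem len_shape (h : IsPair s t) (w : W P) :
    (∃ i : ℤ, 2 * |i| ≤ (len w : ℤ) ∧ w = rot s t ^ i) ∨
    (∃ i : ℤ, |2 * i + 1| ≤ (len w : ℤ) ∧ w = rot s t ^ i * gen t) := by
  obtain ⟨L, hL, rfl⟩ := exists_reduced w
  rw [← hL]
  exact wordW_shape h L

variable [Finite G]

theorem two_le_orderOf_rot (h : IsPair s t) : 2 ≤ orderOf (rot s t) := by
  have h1 : rot s t ≠ 1 := by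
    intro he
    exact h.ne (gen_injective (by rw [gen_left_eq s t, he, mul_one]))
  have h2 := orderOf_pos (rot s t)
  have h3 : orderOf (rot s t) ≠ 1 := fun he => h1 (orderOf_eq_one_iff.1 he)
  omega

theorem zpow_eq_iff_dvd (i j : ℤ) :
    rot s t ^ i = rot s t ^ j ↔ (orderOf (rot s t) : ℤ) ∣ i - j := by
  rw [orderOf_dvd_iff_zpow_eq_one, zpow_sub, mul_inv_eq_one]

theorem gen_ne_rot_zpow (h : IsPair s t) (j : ℤ) : gen t ≠ rot s t ^ j := by
  intro hj
  have hn := two_le_orderOf_rot h
  have h2 : rot s t ^ (j + j) = rot s t ^ (0 : ℤ) := by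
    rw [zpow_add, ← hj, gen_mul_self, zpow_zero]
  have hs : gen s = rot s t ^ (j - 1) := by
    rw [gen_left_eq' s t, hj, ← zpow_neg_one, ← zpow_add]
    congr 1
    ring
  have h3 : rot s t ^ ((j - 1) + (j - 1)) = rot s t ^ (0 : ℤ) := by
    rw [zpow_add, ← hs, gen_mul_self, zpow_zero]
  rw [zpow_eq_iff_dvd, sub_zero] at h2 h3
  have h4 : (orderOf (rot s t) : ℤ) ∣ 2 := by
    have := dvd_sub h2 h3
    rwa [show j + j - (j - 1 + (j - 1)) = 2 by ring] at this
  have h5 : orderOf (rot s t) = 2 := by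
    have := Int.le_of_dvd (by norm_num) h4
    omega
  have hsq : rot s t ^ (2 : ℤ) = 1 := by
    have := pow_orderOf_eq_one (rot s t)
    rw [h5] at this
    exact_mod_cast this
  rcases Int.even_or_odd j with ⟨k, hk⟩ | ⟨k, hk⟩
  · apply gen_ne_one t
    rw [hj, hk, ← two_mul, zpow_mul, hsq, one_zpow]
  · apply gen_ne_one s
    rw [hs, hk, show 2 * k + 1 - 1 = 2 * k by ring, zpow_mul, hsq, one_zpow]

theorem rot_zpow_ne_mul_gen (h : IsPair s t) (i j : ℤ) :
    rot s t ^ i ≠ rot s t ^ j * gen t := by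
  intro he
  apply gen_ne_rot_zpow h (-j + i)
  rw [zpow_add, he, zpow_neg, inv_mul_cancel_left]

/-- Length of an even rotation. -/
theorem len_rot_pow (h : IsPair s t) {i : ℕ} (hi : 2 * i ≤ orderOf (rot s t)) :
    2 * i ≤ len (rot s t ^ i) := by
  rcases len_shape h (rot s t ^ i) with ⟨j, hj, he⟩ | ⟨j, hj, he⟩
  · by_contra hlt
    rw [← zpow_natCast, zpow_eq_iff_dvd] at he
    have hjlt : |j| < (i : ℤ) := by omega
    rw [abs_lt] at hjlt
    have := Int.le_of_dvd (by omega) he
    omega
  · exact absurd (by rw [zpow_natCast]; exact he) (rot_zpow_ne_mul_gen h i j)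

/-- Length of an odd word. -/
theorem len_rot_pow_mul (h : IsPair s t) {i : ℕ} (hi : 2 * i + 1 ≤ orderOf (rot s t)) :
    2 * i + 1 ≤ len (rot s t ^ i * gen t) := by
  rcases len_shape h (rot s t ^ i * gen t) with ⟨j, hj, he⟩ | ⟨j, hj, he⟩
  · exact absurd he.symm (by rw [← zpow_natCast]; exact rot_zpow_ne_mul_gen h j i)
  · by_contra hlt
    rw [mul_left_inj, ← zpow_natCast, zpow_eq_iff_dvd] at he
    have hjlt : |2 * j + 1| < 2 * (i : ℤ) + 1 := by omega
    rw [abs_lt] at hjlt
    have := Int.le_of_dvd (by omega) he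
    omega

/-- The alternating words starting with `t`. -/
def word (s t : P.S) : ℕ → List P.S
  | 0 => []
  | 1 => [t]
  | k + 2 => t :: s :: word s t k

theorem length_word (s t : P.S) : ∀ k, (word s t k).length = k
  | 0 => rfl
  | 1 => rfl
  | k + 2 => by simp [word, length_word s t k]

theorem wordW_word_even (s t : P.S) : ∀ i, wordW (word s t (2 * i)) = rot s t ^ i
  | 0 => by simp [word]
  | i + 1 => by
    rw [show 2 * (i + 1) = 2 * i + 2 by ring, word, wordW_cons, wordW_cons,
      wordW_word_even s t i, pow_succ', rot, mul_assoc]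

theorem wordW_word_odd (s t : P.S) : ∀ i, wordW (word s t (2 * i + 1)) = rot s t ^ i * gen t
  | 0 => by simp [word]
  | i + 1 => by
    rw [show 2 * (i + 1) + 1 = 2 * i + 1 + 2 by ring, word, wordW_cons, wordW_cons,
      wordW_word_odd s t i, pow_succ', rot]
    simp only [mul_assoc]

/-- The standard representatives. -/
def alt (s t : P.S) (k : ℕ) : W P := wordW (word s t k)

theorem len_alt (h : IsPair s t) {k : ℕ} (hk : k ≤ orderOf (rot s t)) : len (alt s t k) = k := by
  refine le_antisymm ((len_wordW_le _).trans (length_word s t k).le) ?_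
  rcases Nat.even_or_odd' k with ⟨i, rfl | rfl⟩
  · rw [alt, wordW_word_even]; exact len_rot_pow h hk
  · rw [alt, wordW_word_odd]; exact len_rot_pow_mul h hk

theorem gen_mul_alt (s t : P.S) : ∀ k, gen t * (gen s * alt s t k) = alt s t (k + 2) := fun k => by
  rw [alt, alt, word, wordW_cons, wordW_cons]

/-- The left shifted representatives are one longer. -/
theorem len_gen_mul_alt (h : IsPair s t) {k : ℕ} (hk : k < orderOf (rot s t)) :
    len (gen s * alt s t k) = k + 1 := by
  refine le_antisymm ?_ ?_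
  · have := len_gen_mul_le s (alt s t k)
    rwa [len_alt h hk.le] at this
  · rcases Nat.lt_or_ge (k + 1) (orderOf (rot s t)) with hlt | hge
    · have h1 := len_alt h (k := k + 2) (by omega)
      rw [← gen_mul_alt] at h1
      have := len_gen_mul_le t (gen s * alt s t k)
      omega
    · have h1 := len_alt h hk.le
      have h2 := len_le_gen_mul s (alt s t k)
      have h3 := len_gen_mul_ne s (alt s t k)
      by_contra hlt
      have hlen : len (gen s * alt s t k) = k - 1 := by omega
      rcases Nat.eq_zero_or_pos k with hk0 | hk0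
      · have := two_le_orderOf_rot h; omega
      rcases Nat.even_or_odd' k with ⟨i, hi | hi⟩ <;> subst hi
      · rcases len_shape h (gen s * alt s t (2 * i)) with ⟨j, hj, he⟩ | ⟨j, hj, he⟩
        all_goals rw [alt, wordW_word_even, ← zpow_natCast, gen_left_mul_rot_zpow] at he
        · exact rot_zpow_ne_mul_gen h _ _ he.symm
        · rw [mul_left_inj, zpow_eq_iff_dvd] at he
          rw [hlen] at hj
          rw [abs_le] at hj
          have hpos : (0 : ℤ) < -(-(i : ℤ) - 1 - j) := by push_cast at hj; omega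
          have := Int.le_of_dvd hpos (dvd_neg.2 he)
          push_cast at hj
          omega
      · rcases len_shape h (gen s * alt s t (2 * i + 1)) with ⟨j, hj, he⟩ | ⟨j, hj, he⟩
        all_goals rw [alt, wordW_word_odd, ← mul_assoc, ← zpow_natCast, gen_left_mul_rot_zpow,
          mul_gen_cancel] at he
        · rw [zpow_eq_iff_dvd] at he
          rw [hlen] at hj
          push_cast at hj
          have hj' : -(i : ℤ) ≤ j ∧ j ≤ i := by rw [← abs_le]; omega
          have hpos : (0 : ℤ) < -(-(i : ℤ) - 1 - j) := by omega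
          have := Int.le_of_dvd hpos (dvd_neg.2 he)
          omega
        · exact rot_zpow_ne_mul_gen h _ _ he

theorem alt_inj (h : IsPair s t) {k l : ℕ} (hk : k < orderOf (rot s t))
    (hl : l < orderOf (rot s t)) : alt s t k ≠ gen s * alt s t l := by
  intro he
  have h1 := congrArg len he
  rw [len_alt h hk.le, len_gen_mul_alt h hl] at h1
  subst h1
  rcases Nat.even_or_odd' l with ⟨i, hi | hi⟩ <;> subst hi
  · rw [alt, alt, wordW_word_odd, wordW_word_even, ← zpow_natCast, gen_left_mul_rot_zpow,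
      mul_left_inj, zpow_eq_iff_dvd] at he
    have := Int.le_of_dvd (by omega) he
    omega
  · rw [show 2 * i + 1 + 1 = 2 * (i + 1) by ring, alt, alt, wordW_word_even, wordW_word_odd,
      ← mul_assoc, ← zpow_natCast, ← zpow_natCast, gen_left_mul_rot_zpow, mul_gen_cancel,
      zpow_eq_iff_dvd] at he
    have := Int.le_of_dvd (by omega) he
    omega

/-- The enumeration of the Weyl group. -/
def enum (s t : P.S) (n : ℕ) (p : Fin n × Bool) : W P :=
  if p.2 then gen s * alt s t p.1 else alt s t p.1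

theorem enum_bijective (h : IsPair s t) :
    Function.Bijective (enum s t (orderOf (rot s t))) := by
  constructor
  · rintro ⟨k, b⟩ ⟨l, c⟩ he
    have hlen : ∀ (m : Fin (orderOf (rot s t))), len (alt s t m) = m :=
      fun m => len_alt h m.2.le
    cases b <;> cases c <;> simp only [enum, if_true, if_false, Bool.false_eq_true] at he
    · have := congrArg len he
      rw [hlen, hlen] at this
      exact Prod.ext (Fin.ext this) rfl
    · exact absurd he (alt_inj h k.2 l.2)
    · exact absurd he.symm (alt_inj h l.2 k.2)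
    · rw [mul_right_inj] at he
      have := congrArg len he
      rw [hlen, hlen] at this
      exact Prod.ext (Fin.ext this) rfl
  · intro w
    obtain ⟨n, hn⟩ : ∃ n, n = orderOf (rot s t) := ⟨_, rfl⟩
    have hn2 := two_le_orderOf_rot h
    obtain ⟨i, hw⟩ := eq_rot_zpow_or h w
    rw [← zpow_mod_orderOf] at hw
    obtain ⟨j, hj⟩ : ∃ j : ℕ, (j : ℤ) = i % (orderOf (rot s t) : ℤ) :=
      ⟨_, Int.toNat_of_nonneg (Int.emod_nonneg _ (by omega))⟩
    have hjn : j < n := by
      have := Int.emod_lt_of_pos i (show (0 : ℤ) < orderOf (rot s t) by omega)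
      omega
    rw [← hj, zpow_natCast] at hw
    subst hn
    rcases hw with rfl | rfl
    · by_cases hc : 2 * j < orderOf (rot s t)
      · exact ⟨(⟨2 * j, hc⟩, false), by simp [enum, alt, wordW_word_even]⟩
      · obtain ⟨l, hl⟩ : ∃ l, orderOf (rot s t) - j = l + 1 :=
          ⟨orderOf (rot s t) - j - 1, by omega⟩
        refine ⟨(⟨2 * l + 1, by omega⟩, true), ?_⟩
        simp only [enum, if_true]
        rw [alt, wordW_word_odd, ← mul_assoc, ← zpow_natCast, gen_left_mul_rot_zpow,
          mul_gen_cancel, ← zpow_natCast, zpow_eq_iff_dvd]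
        exact ⟨-1, by omega⟩
    · by_cases hc : 2 * j + 1 < orderOf (rot s t)
      · exact ⟨(⟨2 * j + 1, hc⟩, false), by simp [enum, alt, wordW_word_odd]⟩
      · obtain ⟨l, hl⟩ : ∃ l, orderOf (rot s t) - 1 - j = l := ⟨_, rfl⟩
        refine ⟨(⟨2 * l, by omega⟩, true), ?_⟩
        simp only [enum, if_true]
        rw [alt, wordW_word_even, ← zpow_natCast, gen_left_mul_rot_zpow, mul_left_inj,
          ← zpow_natCast, zpow_eq_iff_dvd]
        exact ⟨-1, by omega⟩

theorem natCard_W (h : IsPair s t) : Nat.card (W P) = 2 * orderOf (rot s t) := by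
  rw [← Nat.card_congr (Equiv.ofBijective _ (enum_bijective h))]
  simp [mul_comm]

theorem sum_W [Fintype (W P)] (h : IsPair s t) (f : W P → ℝ) :
    ∑ w, f w = ∑ k : Fin (orderOf (rot s t)), (f (alt s t k) + f (gen s * alt s t k)) := by
  rw [← Fintype.sum_bijective _ (enum_bijective h) (fun p => f (enum s t _ p)) f fun _ => rfl,
    Fintype.sum_prod_type]
  refine Finset.sum_congr rfl fun k _ => ?_
  rw [Fintype.sum_bool, add_comm]
  simp [enum]

/-! ### Operators along alternating words -/

variable [Fintype (Ch P)] [DecidableEq (Ch P)]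

theorem Tm_alt_succ (h : IsPair s t) {k : ℕ} (hk : k + 2 ≤ orderOf (rot s t)) :
    Tm (alt s t (k + 2)) = Tm (gen t) * (Tm (gen s) * Tm (alt s t k)) ∧
      qW (alt s t (k + 2)) = qs t * (qs s * qW (alt s t k)) := by
  have h1 := len_gen_mul_alt h (k := k) (by omega)
  have h2 := len_alt h (k := k + 2) hk
  have h3 := len_alt h (k := k) (by omega)
  rw [← gen_mul_alt] at h2 ⊢
  rw [← Tm_gen_mul (by omega), ← Tm_gen_mul (by omega), qW_gen_mul (by omega),
    qW_gen_mul (by omega)]
  exact ⟨rfl, rfl⟩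

theorem Tm_alt_even (h : IsPair s t) : ∀ {i : ℕ}, 2 * i ≤ orderOf (rot s t) →
    Tm (alt s t (2 * i)) = (Tm (gen t) * Tm (gen s)) ^ i ∧
      qW (alt s t (2 * i)) = ((qs s : ℝ) * qs t) ^ i
  | 0, _ => by
    simp only [Nat.mul_zero, alt, word, wordW_nil, pow_zero, Tm_one, qW_one, and_self]
  | i + 1, hi => by
    obtain ⟨h1, h2⟩ := Tm_alt_succ h (k := 2 * i) (by omega)
    obtain ⟨h3, h4⟩ := Tm_alt_even h (i := i) (by omega)
    rw [show 2 * (i + 1) = 2 * i + 2 by ring, h1, h2, h3, h4, pow_succ', pow_succ',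
      Matrix.mul_assoc]
    exact ⟨rfl, by ring⟩

theorem Tm_alt_odd (h : IsPair s t) : ∀ {i : ℕ}, 2 * i + 1 ≤ orderOf (rot s t) →
    Tm (alt s t (2 * i + 1)) = (Tm (gen t) * Tm (gen s)) ^ i * Tm (gen t) ∧
      qW (alt s t (2 * i + 1)) = ((qs s : ℝ) * qs t) ^ i * qs t
  | 0, _ => by
    have e : alt s t 1 = gen t := wordW_singleton t
    rw [e, pow_zero, pow_zero, one_mul, one_mul]
    refine ⟨rfl, ?_⟩
    have h1 := qW_gen_mul (s := t) (w := (1 : W P))
      (by rw [mul_one, len_one]; exact Nat.pos_of_ne_zero fun h0 => gen_ne_one t (eq_one_of_len_eq_zero h0))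
    rwa [mul_one, qW_one, mul_one] at h1
  | i + 1, hi => by
    obtain ⟨h1, h2⟩ := Tm_alt_succ h (k := 2 * i + 1) (by omega)
    obtain ⟨h3, h4⟩ := Tm_alt_odd h (i := i) (by omega)
    rw [show 2 * (i + 1) + 1 = 2 * i + 1 + 2 by ring, h1, h2, h3, h4, pow_succ', pow_succ']
    exact ⟨by simp only [Matrix.mul_assoc], by ring⟩

theorem Tm_gen_alt (h : IsPair s t) {k : ℕ} (hk : k < orderOf (rot s t)) :
    Tm (gen s * alt s t k) = Tm (gen s) * Tm (alt s t k) ∧
      qW (gen s * alt s t k) = qs s * qW (alt s t k) := by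
  have h1 := len_gen_mul_alt h hk
  have h2 := len_alt h hk.le
  exact ⟨(Tm_gen_mul (by omega)).symm, qW_gen_mul (by omega)⟩

theorem IsPair.symm (h : IsPair s t) : IsPair t s := ⟨h.ne.symm, fun x => (h.cover x).symm⟩

theorem rot_swap (s t : P.S) : rot t s = (rot s t)⁻¹ := by
  rw [rot, rot, _root_.mul_inv_rev, gen_inv, gen_inv]

theorem orderOf_rot_swap (s t : P.S) : orderOf (rot t s) = orderOf (rot s t) := by
  rw [rot_swap, orderOf_inv]

/-- The braid relation of the operators, even case. -/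
theorem braid_even (h : IsPair s t) {m : ℕ} (hm : orderOf (rot s t) = 2 * m) :
    (Tm (gen t) * Tm (gen s)) ^ m = (Tm (gen s) * Tm (gen t)) ^ m := by
  rw [← (Tm_alt_even h (i := m) (by omega)).1,
    ← (Tm_alt_even h.symm (i := m) (by rw [orderOf_rot_swap]; omega)).1]
  congr 1
  rw [alt, alt, wordW_word_even, wordW_word_even, rot_swap s t, inv_pow, eq_inv_iff_mul_eq_one,
    ← pow_add, ← two_mul, ← hm, pow_orderOf_eq_one]

/-- The braid relation of the operators, odd case, with equality of the parameters. -/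
theorem braid_odd (h : IsPair s t) {m : ℕ} (hm : orderOf (rot s t) = 2 * m + 1) :
    (Tm (gen t) * Tm (gen s)) ^ m * Tm (gen t) = Tm (gen s) * (Tm (gen t) * Tm (gen s)) ^ m ∧
      (qs s : ℝ) = qs t := by
  obtain ⟨h1, h2⟩ := Tm_alt_odd h (i := m) (by omega)
  obtain ⟨h3, h4⟩ := Tm_alt_even h (i := m) (by omega)
  obtain ⟨h5, h6⟩ := Tm_gen_alt h (k := 2 * m) (by omega)
  have e : alt s t (2 * m + 1) = gen s * alt s t (2 * m) := by
    rw [alt, alt, wordW_word_odd, wordW_word_even, ← zpow_natCast, gen_left_mul_rot_zpow,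
      mul_left_inj, zpow_eq_iff_dvd]
    exact ⟨1, by omega⟩
  refine ⟨by rw [← h1, ← h3, ← h5, e], ?_⟩
  have h7 : qW (alt s t (2 * m + 1)) = qW (gen s * alt s t (2 * m)) := by rw [e]
  rw [h2, h6, h4, mul_comm] at h7
  exact (mul_right_cancel₀ (pow_ne_zero _ (mul_ne_zero
    (by have := two_le_qs (P := P) s; positivity)
    (by have := two_le_qs (P := P) t; positivity))) h7).symm

end Cfsg.Agent.BN.FeitHigman
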