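import Mathlib

/-!
The real arithmetic of the eigenvalue computation for generalised polygons: a linear recurrence, its
quadratic invariant, the sum of the normalised squares, and the quantisation of its parameter.
-/

set_option autoImplicit false

open Real Polynomial Chebyshev

namespace Cfsg.Agent.BN.FeitHigman

/-- Solutions of the linear recurrence. -/
def IsRec (c p : ℝ) (f : ℕ → ℝ) : Prop := ∀ i, f (i + 2) = 2 * c * f (i + 1) - p * f i

/-- The basic solution. -/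
def useq (c p : ℝ) : ℕ → ℝ
  | 0 => 0
  | 1 => 1
  | i + 2 => 2 * c * useq c p (i + 1) - p * useq c p i

theorem useq_isRec (c p : ℝ) : IsRec c p (useq c p) := fun i => by rw [useq]

theorem useq_add (c p : ℝ) : ∀ j i : ℕ,
    useq c p (i + j + 1) = useq c p (i + 1) * useq c p (j + 1) - p * useq c p i * useq c p j := by
  intro j
  induction j using Nat.twoStepInduction with
  | zero => intro i; simp [useq]
  | one =>
    intro i
    rw [useq_isRec c p i]
    simp [useq]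
    ring
  | more j ih1 ih2 =>
    intro i
    rw [show i + (j + 2) + 1 = i + (j + 1) + 2 by ring, useq_isRec c p (i + (j + 1)),
      show i + (j + 1) = i + j + 1 by ring, ih1 i, show i + j + 1 + 1 = i + (j + 1) + 1 by ring,
      ih2 i, show j + 2 + 1 = (j + 1) + 2 by ring, useq_isRec c p (j + 1), useq_isRec c p j]
    ring

theorem useq_eq_U {c r : ℝ} (hr : r ≠ 0) : ∀ i : ℕ,
    useq c (r ^ 2) (i + 1) = r ^ i * (U ℝ (i : ℤ)).eval (c / r) := by
  intro i
  induction i using Nat.twoStepInduction with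
  | zero => simp [useq]
  | one =>
    simp only [useq, Nat.cast_one, U_one, eval_mul, eval_ofNat, eval_X, pow_one]
    field_simp
    ring
  | more i ih1 ih2 =>
    rw [show i + 2 + 1 = i + 1 + 2 by ring, useq_isRec c (r ^ 2) (i + 1), ih1, ih2]
    push_cast
    rw [U_add_two, eval_sub, eval_mul, eval_mul, eval_ofNat, eval_X]
    field_simp
    ring

theorem exists_of_U_eval_eq_zero {k : ℕ} {x : ℝ} (h : (U ℝ (k : ℤ)).eval x = 0) :
    ∃ i : ℕ, i < k ∧ x = Real.cos ((i + 1) * π / (k + 1)) := by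
  have h2 : x ∈ (U ℝ (k : ℤ)).roots := by
    rw [mem_roots']
    exact ⟨U_ne_zero ℝ k (by omega), h⟩
  rw [roots_U_real, Finset.mem_val] at h2
  obtain ⟨i, hi, rfl⟩ := Finset.mem_image.1 h2
  exact ⟨i, Finset.mem_range.1 hi, rfl⟩

/-- The admissible angles. -/
noncomputable def ang (n j : ℕ) : ℝ := 2 * π * j / n

theorem ang_mem {n j : ℕ} (h1 : 1 ≤ j) (h2 : 2 * j < n) : 0 < ang n j ∧ ang n j < π := by
  have hn : (0 : ℝ) < n := by exact_mod_cast (by omega : 0 < n)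
  have hj : (1 : ℝ) ≤ j := by exact_mod_cast h1
  have hj2 : 2 * (j : ℝ) < n := by exact_mod_cast h2
  unfold ang
  refine ⟨by positivity, ?_⟩
  rw [div_lt_iff₀ hn]
  nlinarith [pi_pos]

theorem cos_ang_sq_lt_one {n j : ℕ} (h1 : 1 ≤ j) (h2 : 2 * j < n) :
    Real.cos (ang n j) ^ 2 < 1 := by
  obtain ⟨a, b⟩ := ang_mem h1 h2
  have hs := Real.sin_pos_of_pos_of_lt_pi a b
  nlinarith [Real.sin_sq_add_cos_sq (ang n j), mul_pos hs hs]

theorem quantum_even {c r : ℝ} (hr : 0 < r) {m : ℕ} (hm : 1 ≤ m)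
    (h : useq c (r ^ 2) m = 0) :
    ∃ j, 1 ≤ j ∧ 2 * j < 2 * m ∧ c = r * Real.cos (ang (2 * m) j) := by
  obtain ⟨k, rfl⟩ : ∃ k, m = k + 1 := ⟨m - 1, by omega⟩
  rw [useq_eq_U hr.ne', mul_eq_zero] at h
  obtain ⟨i, hi, hx⟩ := exists_of_U_eval_eq_zero (h.resolve_left (pow_ne_zero _ hr.ne'))
  refine ⟨i + 1, by omega, by omega, ?_⟩
  have e : ((i : ℝ) + 1) * π / (k + 1) = ang (2 * (k + 1)) (i + 1) := by
    unfold ang; push_cast; field_simp
  rw [← e, ← hx, mul_div_cancel₀ _ hr.ne']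

theorem quantum_odd {c q : ℝ} (hq : 0 < q) {m : ℕ}
    (h : useq c (q ^ 2) (m + 1) + q * useq c (q ^ 2) m = 0) :
    ∃ j, 1 ≤ j ∧ 2 * j < 2 * m + 1 ∧ c = q * Real.cos (ang (2 * m + 1) j) := by
  have h0 : useq c (q ^ 2) (2 * m + 1) = 0 := by
    have := useq_add c (q ^ 2) m m
    rw [← two_mul] at this
    rw [this]
    linear_combination (useq c (q ^ 2) (m + 1) - q * useq c (q ^ 2) m) * h
  rw [useq_eq_U hq.ne', mul_eq_zero] at h0
  obtain ⟨i, hi, hx⟩ := exists_of_U_eval_eq_zero (h0.resolve_left (pow_ne_zero _ hq.ne'))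
  rcases Nat.even_or_odd' (i + 1) with ⟨j, hj | hj⟩
  · refine ⟨j, by omega, by omega, ?_⟩
    have hj' : (i : ℝ) + 1 = 2 * j := by exact_mod_cast hj
    have e : ((i : ℝ) + 1) * π / (((2 * m : ℕ) : ℝ) + 1) = ang (2 * m + 1) j := by
      unfold ang; rw [hj']; push_cast; ring
    rw [← e, ← hx, mul_div_cancel₀ _ hq.ne']
  · exfalso
    obtain ⟨φ, hφ⟩ : ∃ φ : ℝ, φ = ((i : ℝ) + 1) * π / (((2 * m : ℕ) : ℝ) + 1) := ⟨_, rfl⟩
    rw [← hφ] at hx
    have hj' : (i : ℝ) + 1 = 2 * j + 1 := by exact_mod_cast hj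
    have hc : c = q * Real.cos φ := by rw [← hx, mul_div_cancel₀ _ hq.ne']
    have hφ0 : 0 < φ := by rw [hφ]; positivity
    have hφ1 : φ < π := by
      rw [hφ, div_lt_iff₀ (by positivity)]
      have : (i : ℝ) + 1 < ((2 * m : ℕ) : ℝ) + 1 := by exact_mod_cast (by omega : i + 1 < 2 * m + 1)
      nlinarith [pi_pos]
    have hs : 0 < Real.sin φ := Real.sin_pos_of_pos_of_lt_pi hφ0 hφ1
    have key : ∀ l : ℕ, useq c (q ^ 2) l * q * Real.sin φ = q ^ l * Real.sin (l * φ) := by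
      intro l
      induction l using Nat.twoStepInduction with
      | zero => simp [useq]
      | one => simp [useq]
      | more l ih1 ih2 =>
        rw [useq_isRec c (q ^ 2) l, hc]
        rw [hc] at ih1 ih2
        have e : Real.sin ((l + 2 : ℕ) * φ) =
            2 * Real.cos φ * Real.sin ((l + 1 : ℕ) * φ) - Real.sin ((l : ℕ) * φ) := by
          push_cast
          rw [show ((l : ℝ) + 2) * φ = ((l : ℝ) + 1) * φ + φ by ring,
            show (l : ℝ) * φ = ((l : ℝ) + 1) * φ - φ by ring, Real.sin_add, Real.sin_sub]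
          ring
        rw [e]
        linear_combination (2 * q * Real.cos φ) * ih2 - q ^ 2 * ih1
    have k1 := key (m + 1)
    have k2 := key m
    have h4 : Real.sin ((m + 1 : ℕ) * φ) + Real.sin ((m : ℕ) * φ) = 0 := by
      have : q ^ (m + 1) * (Real.sin ((m + 1 : ℕ) * φ) + Real.sin ((m : ℕ) * φ)) = 0 := by
        linear_combination (q * Real.sin φ) * h - k1 - q * k2
      exact (mul_eq_zero.1 this).resolve_left (pow_ne_zero _ hq.ne')
    rw [Real.sin_add_sin] at h4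
    have e1 : (((m + 1 : ℕ) : ℝ) * φ + (m : ℝ) * φ) / 2 = j * π + π / 2 := by
      rw [hφ, hj']; push_cast; field_simp; ring
    have e2 : (((m + 1 : ℕ) : ℝ) * φ - (m : ℝ) * φ) / 2 = φ / 2 := by push_cast; ring
    rw [e1, e2, Real.sin_add_pi_div_two, Real.cos_nat_mul_pi] at h4
    have h5 : 0 < Real.cos (φ / 2) := Real.cos_pos_of_mem_Ioo ⟨by linarith, by linarith⟩
    have h6 : ((-1 : ℝ)) ^ j ≠ 0 := pow_ne_zero _ (by norm_num)
    exact (mul_ne_zero (mul_ne_zero two_ne_zero h6) h5.ne') h4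

/-! ### The invariant and the sum -/

variable {c p : ℝ} {f : ℕ → ℝ}

theorem IsRec.invariant (h : IsRec c p f) : ∀ i,
    f (i + 1) ^ 2 - 2 * c * f (i + 1) * f i + p * f i ^ 2 =
      p ^ i * (f 1 ^ 2 - 2 * c * f 1 * f 0 + p * f 0 ^ 2) := by
  intro i
  induction i with
  | zero => simp
  | succ i ih =>
    rw [h i, pow_succ']
    linear_combination p * ih

theorem IsRec.sum_sq (h : IsRec c p f) (h0 : f 0 = 1) (hp : p ≠ 0) : ∀ L : ℕ,
    2 * (p - c ^ 2) * ∑ i ∈ Finset.range (L + 1), f i ^ 2 / p ^ i =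
      L * (f 1 ^ 2 - 2 * c * f 1 + p) + (p - 2 * c ^ 2 + c * f 1) + p * (f L ^ 2 / p ^ L) -
        c * (f L * f (L + 1) / p ^ L) := by
  intro L
  induction L with
  | zero => simp [h0]; ring
  | succ L ih =>
    rw [Finset.sum_range_succ, mul_add, ih, h L]
    have hI := h.invariant L
    rw [h0] at hI
    have hI' : f 1 ^ 2 - 2 * c * f 1 + p =
        (f (L + 1) ^ 2 - 2 * c * f (L + 1) * f L + p * f L ^ 2) / p ^ L := by
      rw [hI]; field_simp
    push_cast
    rw [add_mul, one_mul]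
    generalize hI0 : f 1 ^ 2 - 2 * c * f 1 + p = I at hI'
    subst hI'
    rw [pow_succ']
    field_simp
    ring

/-- The numerator of the multiplicity formula. -/
def num (a b c : ℝ) : ℝ := (a + b + 2 * c) * (1 + a * b - 2 * c)

theorem num_pos {a b c : ℝ} (ha : 2 ≤ a) (hb : 2 ≤ b) (hc : c ^ 2 < a * b) : 0 < num a b c := by
  refine mul_pos ?_ ?_
  · nlinarith [sq_nonneg (a - b), mul_pos (show (0:ℝ) < a by linarith) (show (0:ℝ) < b by linarith)]
  · nlinarith [sq_nonneg (a * b - 1)]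

theorem inv0_eq {a b c f1 : ℝ} (ha : a + 1 ≠ 0) (h1 : f1 = a * (b - 1 + 2 * c) / (a + 1)) :
    (a + 1) ^ 2 * (f1 ^ 2 - 2 * c * f1 + a * b) = a * num a b c := by
  subst h1
  unfold num
  field_simp
  ring

theorem sum_even {a b c : ℝ} {f : ℕ → ℝ} (ha : 2 ≤ a) (hb : 2 ≤ b) (hc : c ^ 2 < a * b)
    (h : IsRec c (a * b) f) (h0 : f 0 = 1) (h1 : f 1 = a * (b - 1 + 2 * c) / (a + 1))
    {m : ℕ} (hm : f (m + 1) = f m * f 1) :
    4 * (a * b - c ^ 2) * ((1 + a) * (∑ i ∈ Finset.range m, f i ^ 2 / (a * b) ^ i +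
      (∑ i ∈ Finset.range m, f (i + 1) ^ 2 / (a * b) ^ (i + 1)) / a)) =
      ((2 * m : ℕ) : ℝ) * num a b c := by
  have hp : a * b ≠ 0 := by positivity
  have hI := inv0_eq (by linarith) h1
  have hI0 : f 1 ^ 2 - 2 * c * f 1 + a * b ≠ 0 := fun e => by
    rw [e, mul_zero] at hI
    exact (mul_pos (show (0:ℝ) < a by linarith) (num_pos ha hb hc)).ne hI
  have hJ : f m ^ 2 / (a * b) ^ m = 1 := by
    have := h.invariant m
    rw [hm, h0] at this
    have e : (f m ^ 2 - (a * b) ^ m) * (f 1 ^ 2 - 2 * c * f 1 + a * b) = 0 := by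
      linear_combination this
    have e2 := sub_eq_zero.1 ((mul_eq_zero.1 e).resolve_right hI0)
    rw [e2, div_self (pow_ne_zero _ hp)]
  have hS := h.sum_sq h0 hp m
  rw [hm, Finset.sum_range_succ, hJ] at hS
  rw [show f m * (f m * f 1) / (a * b) ^ m = f m ^ 2 / (a * b) ^ m * f 1 by ring, hJ] at hS
  obtain ⟨A, hA⟩ : ∃ A, A = ∑ i ∈ Finset.range m, f i ^ 2 / (a * b) ^ i := ⟨_, rfl⟩
  have hB : ∑ i ∈ Finset.range m, f (i + 1) ^ 2 / (a * b) ^ (i + 1) = A := by
    have e := Finset.sum_range_succ' (fun i => f i ^ 2 / (a * b) ^ i) m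
    rw [Finset.sum_range_succ, h0, hJ, ← hA] at e
    simp only [one_pow, pow_zero, div_one] at e
    linarith
  rw [hB, ← hA]
  rw [← hA] at hS
  push_cast
  field_simp
  linear_combination (2 * (1 + a) ^ 2) * hS + 2 * (m : ℝ) * hI

theorem sum_odd {q c : ℝ} {f : ℕ → ℝ} (hq : 2 ≤ q) (hc : c ^ 2 < q * q)
    (h : IsRec c (q * q) f) (h0 : f 0 = 1) (h1 : f 1 = q * (q - 1 + 2 * c) / (q + 1))
    {m : ℕ} (hm : f (m + 1) = q ^ 2 * f m) :
    4 * (q * q - c ^ 2) * ((1 + q) * (∑ i ∈ Finset.range (m + 1), f i ^ 2 / (q * q) ^ i +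
      (∑ i ∈ Finset.range m, f (i + 1) ^ 2 / (q * q) ^ (i + 1)) / q)) =
      ((2 * m + 1 : ℕ) : ℝ) * num q q c := by
  have hp : q * q ≠ 0 := by positivity
  have hI := inv0_eq (by linarith) h1
  have hJ : f m ^ 2 / (q * q) ^ m * (q ^ 2 * (q ^ 2 + 1 - 2 * c)) =
      f 1 ^ 2 - 2 * c * f 1 + q * q := by
    have := h.invariant m
    rw [hm, h0] at this
    field_simp
    linear_combination this
  have hS := h.sum_sq h0 hp m
  rw [hm] at hS
  rw [show f m * (q ^ 2 * f m) / (q * q) ^ m = q ^ 2 * (f m ^ 2 / (q * q) ^ m) by ring] at hS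
  obtain ⟨J, hJ0⟩ : ∃ J, J = f m ^ 2 / (q * q) ^ m := ⟨_, rfl⟩
  rw [← hJ0] at hS hJ
  obtain ⟨A, hA⟩ : ∃ A, A = ∑ i ∈ Finset.range (m + 1), f i ^ 2 / (q * q) ^ i := ⟨_, rfl⟩
  have hB : ∑ i ∈ Finset.range m, f (i + 1) ^ 2 / (q * q) ^ (i + 1) = A - 1 := by
    have e := Finset.sum_range_succ' (fun i => f i ^ 2 / (q * q) ^ i) m
    rw [← hA, h0] at e
    simp only [one_pow, pow_zero, div_one] at e
    linarith
  rw [hB, ← hA]
  rw [← hA] at hS
  have hf1 : (q + 1) * f 1 = q * (q - 1 + 2 * c) := by rw [h1]; field_simp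
  have hne : q ^ 2 + 1 - 2 * c ≠ 0 := by nlinarith [sq_nonneg (q - 1)]
  have hI2 : (q + 1) ^ 2 * (J * q) * (q ^ 2 + 1 - 2 * c) = num q q c := by
    have h2 : q * ((q + 1) ^ 2 * (J * q) * (q ^ 2 + 1 - 2 * c)) = q * num q q c := by
      linear_combination (q + 1) ^ 2 * hJ + hI
    exact mul_left_cancel₀ (by linarith) h2
  have hJv : (q + 1) ^ 2 * (J * q) = 2 * (q + c) := by
    apply mul_right_cancel₀ hne
    rw [hI2]
    unfold num
    ring
  unfold num at hI ⊢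
  push_cast
  field_simp
  linear_combination (2 * (q + 1) ^ 2) * hS + 2 * (m : ℝ) * hI + 2 * q * (1 - c) * hJv +
    2 * c * (q + 1) * hf1

end Cfsg.Agent.BN.FeitHigman
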