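import Cfsg.Agent.Lib.BN.FeitHigman.Dihedral
import Cfsg.Agent.Lib.BN.FeitHigman.Recurrence

/-!
The spectrum of the point operator of a finite (B, N)-pair of rank two: eigenvalues and multiplicities.
-/

set_option autoImplicit false
set_option linter.unusedSectionVars false

open scoped Matrix

namespace Cfsg.Agent.BN.FeitHigman

open Cfsg.Agent.BN.Basic

variable {G : Type*} [Group G] {P : Cfsg.BNPair G} [Finite G] [Fintype (Ch P)] [DecidableEq (Ch P)]

/-- The parameter of a generator, as a real number. -/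
noncomputable def par (s : P.S) : ℝ := qs s

theorem two_le_par (s : P.S) : 2 ≤ par s := by
  unfold par; exact_mod_cast two_le_qs s

theorem par_pos (s : P.S) : 0 < par s := lt_of_lt_of_le two_pos (two_le_par s)

/-- A multiple of the projection onto point functions. -/
noncomputable def proj (s : P.S) : Matrix (Ch P) (Ch P) ℝ := Tm (gen s) + 1

theorem gen_mul_proj (s : P.S) : Tm (gen s) * proj s = par s • proj s := by
  rw [proj, Matrix.mul_add, Matrix.mul_one, Tm_gen_sq, par]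
  module

theorem proj_mul_proj (s : P.S) : proj s * proj s = (par s + 1) • proj s := by
  conv_lhs => rw [proj, Matrix.add_mul, Matrix.one_mul, ← proj, gen_mul_proj]
  module

/-- The auxiliary factor of the point operator. -/
noncomputable def kop (s t : P.S) : Matrix (Ch P) (Ch P) ℝ :=
  proj s * Tm (gen t) + (par s + 2) • 1

/-- The shifted point operator. -/
noncomputable def zop (s t : P.S) : Matrix (Ch P) (Ch P) ℝ :=
  proj s * Tm (gen t) * proj s + (par s + 2) • proj s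

theorem zop_eq (s t : P.S) : zop s t = kop s t * proj s := by
  rw [zop, kop, Matrix.add_mul, Matrix.smul_mul, Matrix.one_mul]

theorem dot_gen (s : P.S) (z x : Ch P → ℝ) :
    z ⬝ᵥ (Tm (gen s) *ᵥ x) = (Tm (gen s) *ᵥ z) ⬝ᵥ x := by
  rw [Matrix.dotProduct_mulVec, ← Matrix.mulVec_transpose, Tm_transpose_gen]

theorem dot_proj (s : P.S) (z x : Ch P → ℝ) : z ⬝ᵥ (proj s *ᵥ x) = (proj s *ᵥ z) ⬝ᵥ x := by
  simp only [proj, Matrix.add_mulVec, Matrix.one_mulVec, dotProduct_add, add_dotProduct, dot_gen]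

theorem zop_transpose (s t : P.S) : (zop s t)ᵀ = zop s t := by
  simp only [zop, proj, Matrix.transpose_add, Matrix.transpose_mul, Matrix.transpose_smul,
    Matrix.transpose_one, Tm_transpose_gen, Matrix.mul_assoc]

theorem zop_hermitian (s t : P.S) : (zop s t).IsHermitian := by
  rw [Matrix.IsHermitian, Matrix.conjTranspose_eq_transpose_of_trivial, zop_transpose]

theorem dot_zop (s t : P.S) (z x : Ch P → ℝ) :
    z ⬝ᵥ (zop s t *ᵥ x) = (zop s t *ᵥ z) ⬝ᵥ x := by
  rw [Matrix.dotProduct_mulVec, ← Matrix.mulVec_transpose, zop_transpose]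

theorem gen_mul_zop (s t : P.S) : Tm (gen s) * zop s t = par s • zop s t := by
  rw [zop, Matrix.mul_add, Matrix.mul_smul, ← Matrix.mul_assoc, ← Matrix.mul_assoc, gen_mul_proj,
    Matrix.smul_mul, Matrix.smul_mul, smul_add, smul_comm]

/-- The eigenvalue of the shifted operator in terms of the parameter. -/
noncomputable def lam (s t : P.S) (c : ℝ) : ℝ :=
  (par s + 1) * (par s + par t + 1 + 2 * c)

/-- A normalised common eigenvector. -/
structure IsEig (s t : P.S) (z : Ch P → ℝ) (c : ℝ) : Prop where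
  norm : z ⬝ᵥ z = 1
  left : Tm (gen s) *ᵥ z = par s • z
  right : proj s *ᵥ (Tm (gen t) *ᵥ z) = (par t - 1 + 2 * c) • z

theorem exists_isEig {s t : P.S} {z : Ch P → ℝ} {l : ℝ} (hz : z ⬝ᵥ z = 1)
    (he : zop s t *ᵥ z = l • z) (hl : l ≠ 0) : ∃ c, IsEig s t z c ∧ lam s t c = l := by
  have hleft : Tm (gen s) *ᵥ z = par s • z := by
    have : Tm (gen s) *ᵥ (l • z) = par s • (l • z) := by
      rw [← he, Matrix.mulVec_mulVec, gen_mul_zop, Matrix.smul_mulVec]
    rw [Matrix.mulVec_smul, smul_comm] at this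
    exact smul_right_injective _ hl this
  have hp : proj s *ᵥ z = (par s + 1) • z := by
    rw [proj, Matrix.add_mulVec, hleft, Matrix.one_mulVec, add_smul, one_smul]
  have ha : par s + 1 ≠ 0 := by linarith [par_pos s]
  refine ⟨(l / (par s + 1) - (par s + 2) - par t + 1) / 2, ⟨hz, hleft, ?_⟩, ?_⟩
  · rw [zop, Matrix.add_mulVec, Matrix.smul_mulVec, hp, ← Matrix.mulVec_mulVec, hp,
      ← Matrix.mulVec_mulVec, Matrix.mulVec_smul, Matrix.mulVec_smul] at he
    refine smul_right_injective _ ha ?_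
    show (par s + 1) • _ = (par s + 1) • _
    rw [eq_sub_of_add_eq he, smul_smul, smul_smul, ← sub_smul]
    congr 1
    field_simp
    ring
  · unfold lam
    field_simp
    ring

theorem dot_self_nonneg (x : Ch P → ℝ) : 0 ≤ x ⬝ᵥ x :=
  Finset.sum_nonneg fun i _ => mul_self_nonneg (x i)

theorem neg_le_dot_gen (t : P.S) (x : Ch P → ℝ) : -(x ⬝ᵥ x) ≤ x ⬝ᵥ (Tm (gen t) *ᵥ x) := by
  have h := dot_self_nonneg (proj t *ᵥ x)
  rw [← dot_proj, Matrix.mulVec_mulVec, proj_mul_proj, Matrix.smul_mulVec, dotProduct_smul,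
    smul_eq_mul, proj, Matrix.add_mulVec, Matrix.one_mulVec, dotProduct_add] at h
  have := (mul_nonneg_iff_of_pos_left (by linarith [par_pos t] : (0 : ℝ) < par t + 1)).1 h
  linarith

theorem proj_mulVec_eq_zero {s t : P.S} {e : Ch P → ℝ} (he : zop s t *ᵥ e = 0) :
    proj s *ᵥ e = 0 := by
  have h : e ⬝ᵥ (zop s t *ᵥ e) = 0 := by rw [he, dotProduct_zero]
  rw [zop, Matrix.add_mulVec, Matrix.smul_mulVec, dotProduct_add, dotProduct_smul,
    ← Matrix.mulVec_mulVec, ← Matrix.mulVec_mulVec, dot_proj, smul_eq_mul] at h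
  obtain ⟨w, hw⟩ : ∃ w, w = proj s *ᵥ e := ⟨_, rfl⟩
  have h2 : e ⬝ᵥ (proj s *ᵥ e) * (par s + 1) = w ⬝ᵥ w := by
    rw [hw, ← dot_proj, Matrix.mulVec_mulVec, proj_mul_proj, Matrix.smul_mulVec, dotProduct_smul,
      smul_eq_mul, mul_comm]
  rw [← hw] at h ⊢
  have hm := neg_le_dot_gen t w
  have ha : 0 < par s + 1 := by linarith [par_pos s]
  have h3 : (par s + 2) * (w ⬝ᵥ w) ≤ (par s + 1) * (w ⬝ᵥ w) := by
    rw [← h2, ← hw]
    rw [← hw] at h2
    nlinarith
  exact dotProduct_self_eq_zero.1 (le_antisymm (by nlinarith) (dot_self_nonneg w))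

/-! ### Values on alternating words -/

variable {s t : P.S} {z : Ch P → ℝ} {c : ℝ}

/-- The rotation operator. -/
noncomputable def mop (s t : P.S) : Matrix (Ch P) (Ch P) ℝ := Tm (gen t) * Tm (gen s)

theorem mop_def (s t : P.S) : Tm (gen t) * Tm (gen s) = mop s t := rfl

/-- The moments of a vector. -/
noncomputable def mom (s t : P.S) (z : Ch P → ℝ) (i : ℕ) : ℝ := z ⬝ᵥ (mop s t ^ i *ᵥ z)

namespace IsEig

theorem mop_mulVec (e : IsEig s t z c) : mop s t *ᵥ z = par s • (Tm (gen t) *ᵥ z) := by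
  rw [mop, ← Matrix.mulVec_mulVec, e.left, Matrix.mulVec_smul]

theorem gen_gen (e : IsEig s t z c) : Tm (gen s) *ᵥ (Tm (gen t) *ᵥ z) =
    (par t - 1 + 2 * c) • z - Tm (gen t) *ᵥ z := by
  rw [eq_sub_iff_add_eq, ← e.right, proj, Matrix.add_mulVec, Matrix.one_mulVec]

theorem mop_gen (e : IsEig s t z c) : mop s t *ᵥ (Tm (gen t) *ᵥ z) =
    (2 * c) • (Tm (gen t) *ᵥ z) - par t • z := by
  rw [mop, ← Matrix.mulVec_mulVec, e.gen_gen, Matrix.mulVec_sub, Matrix.mulVec_smul,
    Matrix.mulVec_mulVec _ (Tm (gen t)), Tm_gen_sq, Matrix.add_mulVec, Matrix.smul_mulVec,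
    Matrix.smul_mulVec, Matrix.one_mulVec, par]
  module

theorem mop_sq (e : IsEig s t z c) : mop s t ^ 2 *ᵥ z =
    (2 * c) • (mop s t *ᵥ z) - (par s * par t) • z := by
  rw [pow_two, ← Matrix.mulVec_mulVec, e.mop_mulVec, Matrix.mulVec_smul, e.mop_gen]
  module

theorem mom_isRec (e : IsEig s t z c) : IsRec c (par s * par t) (mom s t z) := by
  intro i
  rw [mom, mom, mom, pow_add, ← Matrix.mulVec_mulVec, e.mop_sq, Matrix.mulVec_sub,
    Matrix.mulVec_smul, Matrix.mulVec_smul, Matrix.mulVec_mulVec, ← pow_succ, dotProduct_sub,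
    dotProduct_smul, dotProduct_smul, smul_eq_mul, smul_eq_mul]

theorem mom_zero (e : IsEig s t z c) : mom s t z 0 = 1 := by
  rw [mom, pow_zero, Matrix.one_mulVec, e.norm]

theorem dot_gen_t (e : IsEig s t z c) :
    (par s + 1) * (z ⬝ᵥ (Tm (gen t) *ᵥ z)) = par t - 1 + 2 * c := by
  have h := congrArg (fun x => z ⬝ᵥ x) e.right
  simp only [dot_proj, dotProduct_smul, e.norm, smul_eq_mul, mul_one] at h
  rw [← h, proj, Matrix.add_mulVec, e.left, Matrix.one_mulVec, add_dotProduct, smul_dotProduct,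
    smul_eq_mul]
  ring

theorem mom_one (e : IsEig s t z c) :
    mom s t z 1 = par s * (par t - 1 + 2 * c) / (par s + 1) := by
  rw [mom, pow_one, e.mop_mulVec, dotProduct_smul, smul_eq_mul, ← e.dot_gen_t]
  field_simp [show par s + 1 ≠ 0 by linarith [par_pos s]]

theorem pow_gen (e : IsEig s t z c) (i : ℕ) :
    mop s t ^ i *ᵥ (Tm (gen t) *ᵥ z) = (par s)⁻¹ • (mop s t ^ (i + 1) *ᵥ z) := by
  rw [pow_succ, ← Matrix.mulVec_mulVec z, e.mop_mulVec, Matrix.mulVec_smul, smul_smul,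
    inv_mul_cancel₀ (par_pos s).ne', one_smul]

theorem dot_gen_left (e : IsEig s t z c) (x : Ch P → ℝ) :
    z ⬝ᵥ (Tm (gen s) *ᵥ x) = par s * (z ⬝ᵥ x) := by
  rw [dot_gen, e.left, smul_dotProduct, smul_eq_mul]

/-- The values on the representatives. -/
theorem values (e : IsEig s t z c) (h : IsPair s t) {k : ℕ} (hk : k < orderOf (rot s t)) :
    z ⬝ᵥ (Tm (alt s t k) *ᵥ z) =
      (if k % 2 = 0 then mom s t z (k / 2) else mom s t z (k / 2 + 1) / par s) ∧
    qW (alt s t k) =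
      (if k % 2 = 0 then (par s * par t) ^ (k / 2) else (par s * par t) ^ (k / 2) * par t) ∧
    z ⬝ᵥ (Tm (gen s * alt s t k) *ᵥ z) = par s * (z ⬝ᵥ (Tm (alt s t k) *ᵥ z)) ∧
    qW (gen s * alt s t k) = par s * qW (alt s t k) := by
  obtain ⟨h5, h6⟩ := Tm_gen_alt h hk
  refine ⟨?_, ?_, ?_, h6⟩
  rotate_left 2
  · rw [h5, ← Matrix.mulVec_mulVec, e.dot_gen_left]
  all_goals rcases Nat.even_or_odd' k with ⟨i, rfl | rfl⟩
  · rw [(Tm_alt_even h hk.le).1, if_pos (by omega), Nat.mul_div_cancel_left _ two_pos]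
    rfl
  · rw [(Tm_alt_odd h hk.le).1, if_neg (by omega), show (2 * i + 1) / 2 = i by omega,
      ← Matrix.mulVec_mulVec, ← mop, e.pow_gen, dotProduct_smul, smul_eq_mul, inv_mul_eq_div]
    rfl
  · rw [(Tm_alt_even h hk.le).2, if_pos (by omega), Nat.mul_div_cancel_left _ two_pos]
    rfl
  · rw [(Tm_alt_odd h hk.le).2, if_neg (by omega), show (2 * i + 1) / 2 = i by omega]
    rfl

theorem mom_eq (e : IsEig s t z c) {z' : Ch P → ℝ} (e' : IsEig s t z' c) :
    ∀ i, mom s t z i = mom s t z' i := by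
  intro i
  induction i using Nat.twoStepInduction with
  | zero => rw [e.mom_zero, e'.mom_zero]
  | one => rw [e.mom_one, e'.mom_one]
  | more i ih1 ih2 => rw [e.mom_isRec i, e'.mom_isRec i, ih1, ih2]

theorem value_eq (e : IsEig s t z c) (h : IsPair s t) {z' : Ch P → ℝ} (e' : IsEig s t z' c)
    (w : W P) : z ⬝ᵥ (Tm w *ᵥ z) = z' ⬝ᵥ (Tm w *ᵥ z') := by
  obtain ⟨⟨k, b⟩, rfl⟩ := (enum_bijective h).2 w
  obtain ⟨h1, -, h3, -⟩ := e.values h k.2
  obtain ⟨h1', -, h3', -⟩ := e'.values h k.2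
  cases b <;> simp only [enum, if_true, if_false, Bool.false_eq_true]
  · rw [h1, h1', e.mom_eq e', e.mom_eq e']
  · rw [h3, h3', h1, h1', e.mom_eq e', e.mom_eq e']

/-- The degenerate eigenvalues. -/
theorem degenerate (e : IsEig s t z c) {μ : ℝ} (hμ : Tm (gen t) *ᵥ z = μ • z) :
    (μ = par t ∨ μ = -1) ∧ par t - 1 + 2 * c = (par s + 1) * μ := by
  have h1 := congrArg (fun M : Matrix (Ch P) (Ch P) ℝ => z ⬝ᵥ (M *ᵥ z)) (Tm_gen_sq t)
  simp only [Matrix.add_mulVec, Matrix.smul_mulVec, Matrix.one_mulVec, ← Matrix.mulVec_mulVec, hμ,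
    Matrix.mulVec_smul, dotProduct_add, dotProduct_smul, smul_eq_mul, e.norm, mul_one] at h1
  have h2 : (μ - par t) * (μ + 1) = 0 := by rw [par]; linear_combination h1
  refine ⟨(mul_eq_zero.1 h2).imp (fun h => by linarith) (fun h => by linarith), ?_⟩
  have h3 := e.dot_gen_t
  rw [hμ, dotProduct_smul, e.norm, smul_eq_mul, mul_one] at h3
  exact h3.symm

theorem sq_lt_of_nondeg (e : IsEig s t z c) {μ : ℝ} (hμ : Tm (gen t) *ᵥ z = μ • z)
    (hc : c ^ 2 < par s * par t) : False := by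
  obtain ⟨h1 | h1, h2⟩ := e.degenerate hμ <;> subst h1
  · nlinarith [sq_nonneg (par s * par t - 1), two_le_par s, two_le_par t]
  · nlinarith [sq_nonneg (par s - par t), two_le_par s, two_le_par t]

theorem pow_succ_mulVec (e : IsEig s t z c) : ∀ i : ℕ, mop s t ^ (i + 1) *ᵥ z =
    useq c (par s * par t) (i + 1) • (mop s t *ᵥ z) -
      (par s * par t * useq c (par s * par t) i) • z := by
  intro i
  induction i with
  | zero => simp [useq]
  | succ i ih =>
    rw [pow_succ' _ (i + 1), ← Matrix.mulVec_mulVec, ih, Matrix.mulVec_sub, Matrix.mulVec_smul,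
      Matrix.mulVec_smul, Matrix.mulVec_mulVec _ (mop s t) (mop s t), ← pow_two, e.mop_sq,
      useq_isRec c _ i]
    module

variable [Fintype (W P)]

/-- The Schur element of an eigenvector. -/
noncomputable def schur (z : Ch P → ℝ) : ℝ := ∑ w : W P, (z ⬝ᵥ (Tm w *ᵥ z)) ^ 2 / qW w

theorem schur_eq (e : IsEig s t z c) (h : IsPair s t) :
    schur z = (1 + par s) * ∑ k ∈ Finset.range (orderOf (rot s t)),
      (if k % 2 = 0 then mom s t z (k / 2) ^ 2 / (par s * par t) ^ (k / 2)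
        else mom s t z (k / 2 + 1) ^ 2 / (par s * par t) ^ (k / 2 + 1) / par s) := by
  rw [schur, sum_W h, Finset.mul_sum, ← Fin.sum_univ_eq_sum_range]
  refine Finset.sum_congr rfl fun k _ => ?_
  obtain ⟨h1, h2, h3, h4⟩ := e.values h k.2
  rw [h3, h4, h1, h2]
  have := par_pos s
  have := par_pos t
  split_ifs <;> (field_simp; try ring)

theorem sum_parity (g : ℕ → ℝ) : ∀ m, ∑ k ∈ Finset.range (2 * m), g k =
    ∑ i ∈ Finset.range m, g (2 * i) + ∑ i ∈ Finset.range m, g (2 * i + 1) := by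
  intro m
  induction m with
  | zero => simp
  | succ m ih =>
    rw [show 2 * (m + 1) = 2 * m + 1 + 1 by ring, Finset.sum_range_succ, Finset.sum_range_succ, ih,
      Finset.sum_range_succ, Finset.sum_range_succ]
    ring

theorem schur_parts (e : IsEig s t z c) (h : IsPair s t) {m d : ℕ} (hd : d ≤ 1)
    (hn : orderOf (rot s t) = 2 * m + d) :
    schur z = (1 + par s) * (∑ i ∈ Finset.range (m + d), mom s t z i ^ 2 / (par s * par t) ^ i +
      (∑ i ∈ Finset.range m, mom s t z (i + 1) ^ 2 / (par s * par t) ^ (i + 1)) / par s) := by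
  rw [e.schur_eq h, hn, Finset.sum_div]
  have e0 : ∀ i : ℕ, 2 * i % 2 = 0 ∧ 2 * i / 2 = i ∧ (2 * i + 1) % 2 ≠ 0 ∧ (2 * i + 1) / 2 = i :=
    fun i => ⟨by omega, by omega, by omega, by omega⟩
  obtain rfl | rfl : d = 0 ∨ d = 1 := by omega
  · simp only [add_zero, sum_parity, (e0 _).1, (e0 _).2.1, (e0 _).2.2.1, (e0 _).2.2.2, if_true,
      if_false]
  · rw [Finset.sum_range_succ, sum_parity, Finset.sum_range_succ _ m]
    simp only [(e0 _).1, (e0 _).2.1, (e0 _).2.2.1, (e0 _).2.2.2, if_true, if_false]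
    ring

/-- Quantisation and the Schur element. -/
theorem quantum (e : IsEig s t z c) (h : IsPair s t)
    (hnd : ∀ μ : ℝ, Tm (gen t) *ᵥ z ≠ μ • z) :
    ∃ j, 1 ≤ j ∧ 2 * j < orderOf (rot s t) ∧
      c = Real.sqrt (par s * par t) * Real.cos (ang (orderOf (rot s t)) j) ∧
      4 * (par s * par t - c ^ 2) * schur z = orderOf (rot s t) * num (par s) (par t) c := by
  have ha := par_pos s
  have hb := par_pos t
  have hn2 := two_le_orderOf_rot h
  obtain ⟨r, hr⟩ : ∃ r, r = Real.sqrt (par s * par t) := ⟨_, rfl⟩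
  have hr0 : 0 < r := hr ▸ Real.sqrt_pos.2 (mul_pos ha hb)
  have hr2 : r ^ 2 = par s * par t := hr ▸ Real.sq_sqrt (mul_pos ha hb).le
  rw [← hr]
  rcases Nat.even_or_odd' (orderOf (rot s t)) with ⟨m, hn | hn⟩
  · obtain ⟨k, rfl⟩ : ∃ k, m = k + 1 := ⟨m - 1, by omega⟩
    have hcomm : Tm (gen s) * mop s t ^ (k + 1) = mop s t ^ (k + 1) * Tm (gen s) := by
      have hsc : SemiconjBy (Tm (gen s)) (Tm (gen t) * Tm (gen s)) (Tm (gen s) * Tm (gen t)) :=
        (Matrix.mul_assoc _ _ _).symm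
      have h1 := hsc.pow_right (k + 1)
      rw [SemiconjBy, ← braid_even h hn] at h1
      exact h1
    have h1 := congrArg (fun M : Matrix (Ch P) (Ch P) ℝ => M *ᵥ z) hcomm
    simp only [← Matrix.mulVec_mulVec] at h1
    rw [e.left, Matrix.mulVec_smul, e.pow_succ_mulVec, Matrix.mulVec_sub, Matrix.mulVec_smul,
      Matrix.mulVec_smul, e.left, e.mop_mulVec, Matrix.mulVec_smul, e.gen_gen] at h1
    obtain ⟨α, hα⟩ : ∃ α, α = useq c (par s * par t) (k + 1) := ⟨_, rfl⟩
    rw [← hα] at h1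
    have h2 : (α * par s * (par s + 1)) • (Tm (gen t) *ᵥ z) =
        (α * par s * (par t - 1 + 2 * c)) • z := by
      rw [← sub_eq_zero] at h1 ⊢
      rw [← neg_eq_zero, ← h1]
      module
    have hα0 : α = 0 := by
      by_contra hne
      apply hnd ((α * par s * (par s + 1))⁻¹ * (α * par s * (par t - 1 + 2 * c)))
      rw [mul_smul, ← h2, inv_smul_smul₀ (mul_ne_zero (mul_ne_zero hne ha.ne') (by linarith))]
    obtain ⟨j, hj1, hj2, hj3⟩ := quantum_even (c := c) hr0 (m := k + 1) (by omega)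
      (by rw [hr2, ← hα, hα0])
    rw [← hn] at hj2 hj3
    have hc2 : c ^ 2 < par s * par t := by
      rw [hj3, mul_pow, hr2]
      exact mul_lt_of_lt_one_right (mul_pos ha hb) (cos_ang_sq_lt_one hj1 hj2)
    refine ⟨j, hj1, hj2, hj3, ?_⟩
    have hmz := e.pow_succ_mulVec k
    rw [← hα, hα0, zero_smul, zero_sub] at hmz
    have hb2 : mom s t z (k + 1 + 1) = mom s t z (k + 1) * mom s t z 1 := by
      rw [mom, mom, mom, pow_succ' _ (k + 1), ← Matrix.mulVec_mulVec, hmz, Matrix.mulVec_neg,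
        Matrix.mulVec_smul, dotProduct_neg, dotProduct_neg, dotProduct_smul, dotProduct_smul,
        e.norm, pow_one, smul_eq_mul, smul_eq_mul]
      ring
    rw [e.schur_parts h (d := 0) (by omega) (by omega : orderOf (rot s t) = 2 * (k + 1) + 0)]
    rw [sum_even (two_le_par s) (two_le_par t) hc2 e.mom_isRec e.mom_zero e.mom_one hb2, hn]
  · obtain ⟨k, rfl⟩ : ∃ k, m = k + 1 := ⟨m - 1, by omega⟩
    obtain ⟨hbr, hab⟩ := braid_odd h hn
    have hab' : par t = par s := hab.symm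
    have h1 := congrArg (fun M : Matrix (Ch P) (Ch P) ℝ => M *ᵥ z) hbr
    simp only [mop_def, ← Matrix.mulVec_mulVec] at h1
    have hb2 : mom s t z (k + 1 + 1) = par s ^ 2 * mom s t z (k + 1) := by
      have := congrArg (fun x => z ⬝ᵥ x) h1
      simp only [e.pow_gen, dotProduct_smul, e.dot_gen_left, smul_eq_mul] at this
      rw [mom, mom]
      field_simp at this
      linarith
    rw [e.pow_gen, pow_succ' _ (k + 1), ← Matrix.mulVec_mulVec, e.pow_succ_mulVec,
      Matrix.mulVec_sub, Matrix.mulVec_smul, Matrix.mulVec_smul,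
      Matrix.mulVec_mulVec _ (mop s t) (mop s t), ← pow_two, e.mop_sq, e.mop_mulVec,
      Matrix.mulVec_sub, Matrix.mulVec_smul, Matrix.mulVec_smul, Matrix.mulVec_smul, e.left,
      e.gen_gen, hab'] at h1
    obtain ⟨α, hα⟩ : ∃ α, α = useq c (par s * par s) (k + 1) := ⟨_, rfl⟩
    obtain ⟨β, hβ⟩ : ∃ β, β = α * (2 * c + par s) - par s * par s * useq c (par s * par s) k :=
      ⟨_, rfl⟩
    rw [← hα] at h1
    have h2 : β • (Tm (gen t) *ᵥ z) =
        (α * (par s + par s * (par s - 1 + 2 * c)) -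
          par s * par s * useq c (par s * par s) k * par s) • z := by
      rw [← sub_eq_zero] at h1 ⊢
      rw [← h1, hβ]
      match_scalars <;> (field_simp; ring)
    have hβ0 : β = 0 := by
      by_contra hne
      apply hnd (β⁻¹ * (α * (par s + par s * (par s - 1 + 2 * c)) -
          par s * par s * useq c (par s * par s) k * par s))
      rw [mul_smul, ← h2, inv_smul_smul₀ hne]
    obtain ⟨j, hj1, hj2, hj3⟩ := quantum_odd (c := c) ha (m := k + 1) (by
      rw [pow_two, useq_isRec c _ k, ← hα, ← hβ0, hβ]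
      ring)
    rw [← hn] at hj2 hj3
    have hrs : r = par s := by
      rw [hr, hab', Real.sqrt_mul_self ha.le]
    rw [← hrs] at hj3
    have hc2 : c ^ 2 < par s * par s := by
      have : par s * par s = par s * par t := by rw [hab']
      rw [hj3, mul_pow, hr2, this]
      exact mul_lt_of_lt_one_right (mul_pos ha hb) (cos_ang_sq_lt_one hj1 hj2)
    refine ⟨j, hj1, hj2, hj3, ?_⟩
    rw [e.schur_parts h (d := 1) le_rfl hn, hn]
    have h3 := e.mom_isRec
    have h4 := e.mom_one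
    rw [hab'] at h3 h4 ⊢
    exact sum_odd (two_le_par s) hc2 h3 e.mom_zero h4 hb2

/-- The degenerate eigenvalues in the odd case. -/
theorem degenerate_odd (e : IsEig s t z c) (h : IsPair s t) {m : ℕ}
    (hn : orderOf (rot s t) = 2 * m + 1) {μ : ℝ} (hμ : Tm (gen t) *ᵥ z = μ • z) : μ = par t := by
  rcases (e.degenerate hμ).1 with h0 | h0
  · exact h0
  exfalso
  obtain ⟨hbr, -⟩ := braid_odd h hn
  have hpow : ∀ i : ℕ, mop s t ^ i *ᵥ z = (par s * μ) ^ i • z := by
    intro i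
    induction i with
    | zero => simp
    | succ i ih =>
      rw [pow_succ', ← Matrix.mulVec_mulVec, ih, Matrix.mulVec_smul, e.mop_mulVec, hμ, smul_smul,
        smul_smul, pow_succ]
      congr 1
      ring
  have h1 := congrArg (fun M : Matrix (Ch P) (Ch P) ℝ => z ⬝ᵥ (M *ᵥ z)) hbr
  simp only [mop_def, ← Matrix.mulVec_mulVec, hμ, Matrix.mulVec_smul, hpow, e.left, dotProduct_smul,
    e.norm, smul_eq_mul, mul_one] at h1
  rw [mul_comm] at h1
  have := mul_left_cancel₀ (pow_ne_zero _ (mul_ne_zero (par_pos s).ne' (by rw [h0]; norm_num))) h1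
  linarith [par_pos s]

end IsEig

end Cfsg.Agent.BN.FeitHigman
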