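import Cfsg.Agent.Lib.BN.FeitHigman.Spectrum

/-!
Eigenvalue multiplicities of the point operator, their invariance under algebraic conjugation, and the
theorem of Feit and Higman for (B, N)-pairs of rank two.
-/

set_option autoImplicit false
set_option linter.unusedSectionVars false

open scoped Matrix
open Polynomial

namespace Cfsg.Agent.BN.FeitHigman

open Cfsg.Agent.BN.Basic

/-! ### Algebraic conjugates -/

/-- Real numbers that satisfy the same rational polynomials. -/
def Conj (x y : ℝ) : Prop := ∀ p : ℚ[X], aeval x p = 0 ↔ aeval y p = 0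

theorem Conj.affine {x y : ℝ} (h : Conj x y) (A B : ℚ) :
    Conj ((A : ℝ) + B * x) ((A : ℝ) + B * y) := fun p => by
  have e : ∀ z : ℝ, aeval z (p.comp (C A + C B * X)) = aeval ((A : ℝ) + B * z) p := by
    intro z
    rw [aeval_comp]
    simp
  have := h (p.comp (C A + C B * X))
  rwa [e, e] at this

theorem Conj.rat_eq {x y : ℝ} (h : Conj x y) {r : ℚ} (hy : y = r) : x = r := by
  have := (h (X - C r)).2 (by simp [hy])
  simpa [sub_eq_zero] using this

/-- An irrational root of a rational polynomial with only real roots has another conjugate. -/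
theorem exists_conj {ι : Type*} [Fintype ι] {p : ℚ[X]} {e : ι → ℝ}
    (hp : p.map (algebraMap ℚ ℝ) = ∏ i, (X - C (e i))) (i : ι) (hirr : ¬ ∃ r : ℚ, e i = r) :
    ∃ k, e k ≠ e i ∧ Conj (e i) (e k) := by
  have hroot : ∀ k, aeval (e k) p = 0 := fun k => by
    rw [aeval_def, eval₂_eq_eval_map, hp, eval_prod]
    exact Finset.prod_eq_zero (Finset.mem_univ k) (by simp)
  have hmonic : p.Monic := by
    have : (p.map (algebraMap ℚ ℝ)).Monic := by
      rw [hp]; exact monic_prod_X_sub_C e Finset.univ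
    exact monic_of_injective (algebraMap ℚ ℝ).injective this
  have hint : IsIntegral ℚ (e i) := ⟨p, hmonic, hroot i⟩
  obtain ⟨q, hq⟩ : ∃ q, q = minpoly ℚ (e i) := ⟨_, rfl⟩
  have hdeg : 2 ≤ q.natDegree := by
    rw [hq]
    have h1 := minpoly.natDegree_pos hint
    by_contra hlt
    have h2 : (minpoly ℚ (e i)).natDegree = 1 := by omega
    rw [minpoly.natDegree_eq_one_iff] at h2
    obtain ⟨r, hr⟩ := h2
    exact hirr ⟨r, by rw [← hr]; rfl⟩
  have hqirr : Irreducible q := hq ▸ minpoly.irreducible hint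
  have hcard : (q.rootSet ℂ).ncard = q.natDegree := by
    rw [← Nat.card_coe_set_eq, Nat.card_eq_fintype_card]
    exact card_rootSet_eq_natDegree hqirr.separable (IsAlgClosed.splits _)
  obtain ⟨μ, hμ, hne⟩ : ∃ μ ∈ q.rootSet ℂ, μ ≠ (e i : ℂ) :=
    Set.exists_ne_of_one_lt_ncard (by omega) _
  have hμq : aeval μ q = 0 := (mem_rootSet.1 hμ).2
  have hμp : aeval μ p = 0 := by
    obtain ⟨g, hg⟩ : q ∣ p := hq ▸ minpoly.dvd ℚ _ (hroot i)
    rw [hg, map_mul, hμq, zero_mul]
  have hprod : ∏ k, (μ - (e k : ℂ)) = 0 := by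
    have h1 : p.map (algebraMap ℚ ℂ) = (p.map (algebraMap ℚ ℝ)).map (algebraMap ℝ ℂ) := by
      rw [Polynomial.map_map, ← IsScalarTower.algebraMap_eq]
    rw [aeval_def, eval₂_eq_eval_map, h1, hp, Polynomial.map_prod, eval_prod] at hμp
    simpa using hμp
  obtain ⟨k, -, hk⟩ := Finset.prod_eq_zero_iff.1 hprod
  rw [sub_eq_zero] at hk
  refine ⟨k, fun h => hne (by rw [hk, h]), fun f => ?_⟩
  have hqk : aeval (e k) q = 0 := by
    have h2 := hμq
    rw [hk, show ((e k : ℝ) : ℂ) = algebraMap ℝ ℂ (e k) from rfl, aeval_algebraMap_apply,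
      map_eq_zero] at h2
    exact h2
  have hmin : q = minpoly ℚ (e k) := by
    rw [hq] at hqk hqirr ⊢
    exact minpoly.eq_of_irreducible_of_monic hqirr hqk (minpoly.monic hint)
  rw [← minpoly.dvd_iff, ← minpoly.dvd_iff, ← hmin, hq]

theorem Conj.rootMultiplicity_eq {x y : ℝ} (h : Conj x y) {p : ℚ[X]} (hp : p ≠ 0) :
    (p.map (algebraMap ℚ ℝ)).rootMultiplicity x = (p.map (algebraMap ℚ ℝ)).rootMultiplicity y := by
  have hp' : p.map (algebraMap ℚ ℝ) ≠ 0 :=
    (Polynomial.map_ne_zero_iff (algebraMap ℚ ℝ).injective).2 hp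
  have e : ∀ (z : ℝ) (n : ℕ), n < (p.map (algebraMap ℚ ℝ)).rootMultiplicity z ↔
      ∀ m ≤ n, aeval z (derivative^[m] p) = 0 := by
    intro z n
    rw [lt_rootMultiplicity_iff_isRoot_iterate_derivative hp']
    simp only [IsRoot, iterate_derivative_map, eval_map, aeval_def]
  refine le_antisymm (le_of_forall_lt fun n hn => ?_) (le_of_forall_lt fun n hn => ?_)
  · exact (e y n).2 fun m hm => (h _).1 ((e x n).1 hn m hm)
  · exact (e x n).2 fun m hm => (h _).2 ((e y n).1 hn m hm)

variable {G : Type*} [Group G] {P : Cfsg.BNPair G} [Finite G] [Fintype (Ch P)] [DecidableEq (Ch P)]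

theorem exists_rat_zop (s t : P.S) :
    ∃ Z : Matrix (Ch P) (Ch P) ℚ, zop s t = (algebraMap ℚ ℝ).mapMatrix Z := by
  refine ⟨(adj ℚ (gen s) + 1) * adj ℚ (gen t) * (adj ℚ (gen s) + 1) +
    ((qs s + 2 : ℕ) : ℚ) • (adj ℚ (gen s) + 1), ?_⟩
  have hT : ∀ w : W P, (algebraMap ℚ ℝ).mapMatrix (adj ℚ w) = Tm w := fun w => by
    rw [Tm_eq_map, RingHom.mapMatrix_apply]; rfl
  have h2 : ∀ (k : ℕ) (M : Matrix (Ch P) (Ch P) ℚ),
      (algebraMap ℚ ℝ).mapMatrix ((k : ℚ) • M) = (k : ℝ) • (algebraMap ℚ ℝ).mapMatrix M := by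
    intro k M; ext i j; simp
  rw [map_add, map_mul, map_mul, h2, map_add, map_one, hT, hT, zop, proj, par]
  push_cast
  rfl

/-- The eigenvalues of the shifted operator. -/
noncomputable def eig (s t : P.S) : Ch P → ℝ := (zop_hermitian s t).eigenvalues

/-- The orthonormal eigenvectors. -/
noncomputable def vec (s t : P.S) (i : Ch P) : Ch P → ℝ :=
  ⇑((zop_hermitian s t).eigenvectorBasis i)

theorem zop_vec (s t : P.S) (i : Ch P) : zop s t *ᵥ vec s t i = eig s t i • vec s t i :=
  (zop_hermitian s t).mulVec_eigenvectorBasis i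

theorem vec_norm (s t : P.S) (i : Ch P) : vec s t i ⬝ᵥ vec s t i = 1 := by
  have h := (zop_hermitian s t).eigenvectorBasis.orthonormal.1 i
  have h2 := real_inner_self_eq_norm_sq ((zop_hermitian s t).eigenvectorBasis i)
  rw [h, EuclideanSpace.inner_eq_star_dotProduct, star_trivial, one_pow] at h2
  exact h2

theorem trace_eq_sum_vec (s t : P.S) (A : Matrix (Ch P) (Ch P) ℝ) :
    A.trace = ∑ i, vec s t i ⬝ᵥ (A *ᵥ vec s t i) := by
  obtain ⟨U, hU⟩ : ∃ U : Matrix (Ch P) (Ch P) ℝ,
      U = ((zop_hermitian s t).eigenvectorUnitary : Matrix (Ch P) (Ch P) ℝ) := ⟨_, rfl⟩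
  have hUU : U * Uᵀ = 1 := by
    rw [hU, ← Matrix.conjTranspose_eq_transpose_of_trivial, ← Matrix.star_eq_conjTranspose]
    exact Unitary.coe_mul_star_self _
  calc A.trace = (Uᵀ * A * U).trace := by
        rw [Matrix.trace_mul_cycle, hUU, Matrix.one_mul]
    _ = _ := Finset.sum_congr rfl fun i _ => by
        rw [Matrix.diag_apply, Matrix.mul_assoc, Matrix.mul_apply]
        refine Finset.sum_congr rfl fun x _ => ?_
        rw [Matrix.transpose_apply, Matrix.mul_apply, hU]
        rfl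

theorem eq_zero_of_mulVec_vec (s t : P.S) {A : Matrix (Ch P) (Ch P) ℝ}
    (h : ∀ i, A *ᵥ vec s t i = 0) : A = 0 := by
  obtain ⟨U, hU⟩ : ∃ U : Matrix (Ch P) (Ch P) ℝ,
      U = ((zop_hermitian s t).eigenvectorUnitary : Matrix (Ch P) (Ch P) ℝ) := ⟨_, rfl⟩
  have hUU : U * Uᵀ = 1 := by
    rw [hU, ← Matrix.conjTranspose_eq_transpose_of_trivial, ← Matrix.star_eq_conjTranspose]
    exact Unitary.coe_mul_star_self _
  have hAU : A * U = 0 := by
    ext x i
    have := congrFun (h i) x
    rw [Matrix.mul_apply, hU]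
    exact this
  rw [← Matrix.mul_one A, ← hUU, ← Matrix.mul_assoc, hAU, Matrix.zero_mul]

/-- The multiplicity of an eigenvalue. -/
noncomputable def mult (s t : P.S) (l : ℝ) : ℕ :=
  (Finset.univ.filter fun i => eig s t i = l).card

theorem charpoly_zop (s t : P.S) :
    (zop s t).charpoly = ∏ i, (X - C (eig s t i)) := (zop_hermitian s t).charpoly_eq

theorem exists_charpoly_rat (s t : P.S) :
    ∃ p : ℚ[X], p ≠ 0 ∧ p.map (algebraMap ℚ ℝ) = ∏ i, (X - C (eig s t i)) := by
  obtain ⟨Z, hZ⟩ := exists_rat_zop s t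
  refine ⟨Z.charpoly, Z.charpoly_monic.ne_zero, ?_⟩
  rw [← Matrix.charpoly_map, ← charpoly_zop, hZ]
  rfl

theorem rootMultiplicity_prod (s t : P.S) (l : ℝ) :
    (∏ i, (X - C (eig s t i))).rootMultiplicity l = mult s t l := by
  classical
  rw [← count_roots, roots_prod]
  · simp only [roots_X_sub_C, Multiset.bind_singleton, Multiset.count_map, mult, Finset.card,
      Finset.filter_val]
    congr 1
    exact Multiset.filter_congr fun i _ => eq_comm
  · simp [Finset.prod_ne_zero_iff, X_sub_C_ne_zero]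

theorem mult_eq_of_conj (s t : P.S) {l l' : ℝ} (h : Conj l l') : mult s t l = mult s t l' := by
  obtain ⟨p, hp0, hp⟩ := exists_charpoly_rat s t
  rw [← rootMultiplicity_prod, ← rootMultiplicity_prod, ← hp]
  exact h.rootMultiplicity_eq hp0

theorem lam_inj {s t : P.S} {c c' : ℝ} (h : lam s t c = lam s t c') : c = c' := by
  have := mul_left_cancel₀ (show par s + 1 ≠ 0 by linarith [par_pos s]) h
  linarith

variable [Fintype (W P)]

theorem proj_mul_avg (s : P.S) (z z' : Ch P → ℝ) :
    proj s * avg z z' = avg (proj s *ᵥ z) z' := by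
  rw [proj, Matrix.add_mul, Matrix.one_mul, gen_mul_avg, Matrix.add_mulVec, Matrix.one_mulVec,
    avg_add]

theorem zop_mul_avg (s t : P.S) (z z' : Ch P → ℝ) :
    zop s t * avg z z' = avg (zop s t *ᵥ z) z' := by
  rw [zop, Matrix.add_mul, Matrix.smul_mul, Matrix.mul_assoc, Matrix.mul_assoc, proj_mul_avg,
    gen_mul_avg, proj_mul_avg, Matrix.add_mulVec, Matrix.smul_mulVec, avg_add, avg_smul,
    Matrix.mulVec_mulVec, Matrix.mulVec_mulVec]

/-- The multiplicity formula. -/
theorem mult_mul_schur {s t : P.S} (h : IsPair s t) {i : Ch P} (hi : eig s t i ≠ 0) :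
    (mult s t (eig s t i) : ℝ) * IsEig.schur (vec s t i) = Fintype.card (Ch P) := by
  classical
  obtain ⟨c, hc, hcl⟩ := exists_isEig (vec_norm s t i) (zop_vec s t i) hi
  obtain ⟨F, hF⟩ : ∃ F, F = avg (vec s t i) (vec s t i) := ⟨_, rfl⟩
  have hterm : ∀ k, vec s t k ⬝ᵥ (F *ᵥ vec s t k) =
      if eig s t k = eig s t i then IsEig.schur (vec s t i) else 0 := by
    intro k
    split_ifs with hk
    · obtain ⟨c', hc', hcl'⟩ := exists_isEig (vec_norm s t k) (zop_vec s t k) (by rwa [hk])
      have hcc : c' = c := lam_inj (by rw [hcl', hcl, hk])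
      subst hcc
      rw [hF, avg, Matrix.sum_mulVec, dotProduct_sum, IsEig.schur]
      refine Finset.sum_congr rfl fun w _ => ?_
      rw [Matrix.smul_mulVec, dotProduct_smul, ← hc.value_eq h hc' w, smul_eq_mul]
      ring
    · have h1 : zop s t * F = eig s t i • F := by
        rw [hF, zop_mul_avg, zop_vec, avg_smul]
      have h2 : (eig s t i - eig s t k) * (vec s t k ⬝ᵥ (F *ᵥ vec s t k)) = 0 := by
        have h3 := congrArg (fun M : Matrix (Ch P) (Ch P) ℝ => vec s t k ⬝ᵥ (M *ᵥ vec s t k)) h1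
        simp only [← Matrix.mulVec_mulVec, dot_zop, zop_vec, smul_dotProduct, Matrix.smul_mulVec,
          dotProduct_smul, smul_eq_mul] at h3
        linarith
      exact (mul_eq_zero.1 h2).resolve_left (sub_ne_zero.2 (Ne.symm hk))
  have htr := trace_avg (P := P) (vec s t i)
  rw [← hF, trace_eq_sum_vec s t, Finset.sum_congr rfl fun k _ => hterm k, ← Finset.sum_filter,
    Finset.sum_const, nsmul_eq_mul, vec_norm, mul_one] at htr
  exact htr

theorem zop_pow_mul_proj (s t : P.S) : ∀ i : ℕ,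
    zop s t ^ i * proj s = (par s + 1) ^ i • (kop s t ^ i * proj s) ∧
      Tm (gen s) * (kop s t ^ i * proj s) = par s • (kop s t ^ i * proj s) := by
  intro i
  induction i with
  | zero => simp [gen_mul_proj]
  | succ i ih =>
    obtain ⟨h1, h2⟩ := ih
    obtain ⟨Y, hY⟩ : ∃ Y, Y = kop s t ^ i * proj s := ⟨_, rfl⟩
    have hp : proj s * Y = (par s + 1) • Y := by
      rw [hY, proj, Matrix.add_mul, ← proj, h2, Matrix.one_mul, add_smul, one_smul]
    constructor
    · rw [pow_succ', Matrix.mul_assoc, h1, ← hY, Matrix.mul_smul, zop_eq, Matrix.mul_assoc, hp,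
        Matrix.mul_smul, smul_smul, ← pow_succ, pow_succ' (kop s t), Matrix.mul_assoc, ← hY]
    · rw [pow_succ' (kop s t), Matrix.mul_assoc, ← hY]
      rw [← hY] at h2
      rw [kop, Matrix.add_mul, Matrix.smul_mul, Matrix.one_mul, Matrix.mul_add, Matrix.mul_smul, h2,
        Matrix.mul_assoc (proj s), ← Matrix.mul_assoc (Tm (gen s)) (proj s), gen_mul_proj,
        Matrix.smul_mul, smul_add, smul_comm]

/-- Entrywise order. -/
def Below (A B : Matrix (Ch P) (Ch P) ℝ) : Prop := ∀ x y, 0 ≤ A x y ∧ A x y ≤ B x y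

theorem Below.mul {A B C D : Matrix (Ch P) (Ch P) ℝ} (h : Below A B) (h' : Below C D) :
    Below (A * C) (B * D) := by
  intro x y
  simp only [Matrix.mul_apply]
  exact ⟨Finset.sum_nonneg fun k _ => mul_nonneg (h x k).1 (h' k y).1,
    Finset.sum_le_sum fun k _ => mul_le_mul (h x k).2 (h' k y).2 (h' k y).1
      ((h x k).1.trans (h x k).2)⟩

theorem below_refl (w : W P) : Below (Tm w) (Tm w) := fun x y => ⟨Tm_nonneg w x y, le_rfl⟩

theorem below_kop (s t : P.S) :
    Below (Tm (gen t)) (kop s t) ∧ Below (Tm (gen s) * Tm (gen t)) (kop s t) := by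
  have h1 : ∀ x y, 0 ≤ (Tm (gen s) * Tm (gen t)) x y := fun x y =>
    ((below_refl (gen s)).mul (below_refl (gen t)) x y).1
  have h3 : ∀ x y, 0 ≤ (par s + 2) • (1 : Matrix (Ch P) (Ch P) ℝ) x y := fun x y => by
    rw [Matrix.one_apply, smul_eq_mul]
    have := par_pos s
    split_ifs <;> positivity
  constructor <;>
  · intro x y
    have := h1 x y
    have := h3 x y
    have := Tm_nonneg (gen t) x y
    rw [kop, proj, Matrix.add_mul, Matrix.one_mul, Matrix.add_apply, Matrix.add_apply,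
      Matrix.smul_apply]
    constructor <;> linarith

theorem mop_pow_below (s t : P.S) : ∀ d : ℕ, ∀ x y,
    (mop s t ^ d) x y ≤ (kop s t ^ d * proj s) x y := by
  intro d x y
  have hid : Below (1 : Matrix (Ch P) (Ch P) ℝ) 1 := by
    rw [← Tm_one]; exact below_refl _
  have hproj : Below (1 : Matrix (Ch P) (Ch P) ℝ) (proj s) ∧ Below (Tm (gen s)) (proj s) := by
    constructor <;>
    · intro x y
      have := Tm_nonneg (gen s) x y
      have := (hid x y).1
      rw [proj, Matrix.add_apply]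
      constructor <;> linarith
  rcases Nat.eq_zero_or_pos d with rfl | hd
  · rw [pow_zero, pow_zero, Matrix.one_mul]
    exact (hproj.1 x y).2
  · obtain ⟨i, rfl⟩ : ∃ i, d = i + 1 := ⟨d - 1, by omega⟩
    have key : ∀ i : ℕ, Below (mop s t ^ i * Tm (gen t)) (kop s t ^ (i + 1)) := by
      intro i
      induction i with
      | zero => rw [pow_zero, pow_one, Matrix.one_mul]; exact (below_kop s t).1
      | succ i ih =>
        rw [pow_succ, pow_succ (kop s t) (i + 1)]
        have e : mop s t ^ i * mop s t * Tm (gen t) =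
            mop s t ^ i * Tm (gen t) * (Tm (gen s) * Tm (gen t)) := by
          simp only [mop, Matrix.mul_assoc]
        rw [e]
        exact ih.mul (below_kop s t).2
    have e : mop s t ^ (i + 1) = mop s t ^ i * Tm (gen t) * Tm (gen s) := by
      rw [pow_succ, Matrix.mul_assoc, mop]
    rw [e]
    exact ((key i).mul hproj.2 x y).2

theorem len_gen (s : P.S) : len (gen s) ≤ 1 := by
  simpa using len_wordW_le [s]

/-- There are at least as many eigenvalues as double cosets. -/
theorem card_eig {s t : P.S} (h : IsPair s t) :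
    orderOf (rot s t) / 2 + 1 ≤
      ((Finset.univ.image (eig s t)).filter fun l => l ≠ 0).card := by
  classical
  obtain ⟨Λ, hΛ⟩ : ∃ Λ, Λ = (Finset.univ.image (eig s t)).filter fun l => l ≠ 0 := ⟨_, rfl⟩
  obtain ⟨d, hd⟩ : ∃ d, d = orderOf (rot s t) / 2 := ⟨_, rfl⟩
  rw [← hΛ, ← hd]
  by_contra hlt
  obtain ⟨p, hp⟩ : ∃ p : ℝ[X], p = (∏ l ∈ Λ, (X - C l)) * X ^ (d - Λ.card) := ⟨_, rfl⟩
  have hmonic : p.Monic := hp ▸ (monic_prod_X_sub_C _ _).mul (monic_X_pow _)
  have hdeg : p.natDegree = d := by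
    rw [hp, (monic_prod_X_sub_C _ _).natDegree_mul (monic_X_pow _),
      natDegree_finset_prod_X_sub_C_eq_card, natDegree_X_pow]
    omega
  have hkill : aeval (zop s t) p * proj s = 0 := by
    refine eq_zero_of_mulVec_vec s t fun i => ?_
    rw [← Matrix.mulVec_mulVec]
    by_cases h0 : eig s t i = 0
    · rw [proj_mulVec_eq_zero (t := t) (by rw [zop_vec, h0, zero_smul]), Matrix.mulVec_zero]
    · obtain ⟨c, hc, -⟩ := exists_isEig (vec_norm s t i) (zop_vec s t i) h0
      have hpow : ∀ k : ℕ, zop s t ^ k *ᵥ vec s t i = eig s t i ^ k • vec s t i := by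
        intro k
        induction k with
        | zero => simp
        | succ k ih =>
          rw [pow_succ', ← Matrix.mulVec_mulVec, ih, Matrix.mulVec_smul, zop_vec, smul_smul,
            pow_succ]
      rw [proj, Matrix.add_mulVec, hc.left, Matrix.one_mulVec, Matrix.mulVec_add,
        Matrix.mulVec_smul, aeval_eq_sum_range, Matrix.sum_mulVec]
      simp only [Matrix.smul_mulVec, hpow, smul_smul, ← Finset.sum_smul]
      rw [← eval_eq_sum_range, hp, eval_mul, eval_prod,
        Finset.prod_eq_zero (i := eig s t i) (hΛ ▸ Finset.mem_filter.2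
          ⟨Finset.mem_image_of_mem _ (Finset.mem_univ _), h0⟩) (by simp)]
      simp
  obtain ⟨g, hg⟩ := cell_nonempty (alt s t (2 * d))
  obtain ⟨x, hx⟩ : ∃ x : Ch P, x = QuotientGroup.mk (1 : G) := ⟨_, rfl⟩
  obtain ⟨y, hy⟩ : ∃ y : Ch P, y = QuotientGroup.mk g := ⟨_, rfl⟩
  have hrel : Rel (alt s t (2 * d)) x y := by
    rw [hx, hy, rel_mk]; simpa using hg
  have hlen := len_alt h (k := 2 * d) (by omega)
  have hsupp : ∀ i : ℕ, Supp (2 * i + 1) (kop s t ^ i * proj s) := by
    intro i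
    have h1 : Supp 1 (proj s) :=
      (supp_Tm _ (len_gen s)).add (by rw [← Tm_one]; exact supp_Tm _ (by rw [len_one]; omega))
    have h2 : Supp 2 (kop s t) :=
      (h1.mul (supp_Tm _ (len_gen t))).add
        ((by rw [← Tm_one]; exact supp_Tm _ (by rw [len_one]; omega) :
          Supp 2 (1 : Matrix (Ch P) (Ch P) ℝ)).smul _)
    exact (h2.pow i).mul h1
  have hzero : ∀ i < d, (kop s t ^ i * proj s) x y = 0 := by
    intro i hi
    by_contra hne
    have := hsupp i x y hne _ hrel
    omega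
  have hpos : 0 < (kop s t ^ d * proj s) x y := by
    refine lt_of_lt_of_le ?_ (mop_pow_below s t d x y)
    rw [mop, ← (Tm_alt_even h (i := d) (by omega)).1, Tm_apply, if_pos hrel]
    exact one_pos
  have e := congrFun (congrFun hkill x) y
  rw [aeval_eq_sum_range, hdeg, Finset.sum_mul, Matrix.sum_apply, Finset.sum_range_succ,
    Finset.sum_eq_zero, zero_add] at e
  · rw [Matrix.smul_mul, (zop_pow_mul_proj s t d).1, Matrix.smul_apply, Matrix.smul_apply,
      Matrix.zero_apply, smul_eq_mul, smul_eq_mul] at e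
    have h1 : p.coeff d = 1 := by rw [← hdeg]; exact hmonic
    rw [h1, one_mul] at e
    have := mul_pos (pow_pos (by linarith [par_pos s] : (0 : ℝ) < par s + 1) d) hpos
    linarith
  · intro i hi
    rw [Matrix.smul_mul, (zop_pow_mul_proj s t i).1, Matrix.smul_apply, Matrix.smul_apply,
      hzero i (Finset.mem_range.1 hi), smul_zero, smul_zero]

/-- The principal parameters all occur, and every other nonzero eigenvalue is rational. -/
theorem spectrum_eq {s t : P.S} (h : IsPair s t) :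
    (∀ j, 1 ≤ j → 2 * j < orderOf (rot s t) → ∃ i : Ch P,
      eig s t i = lam s t (Real.sqrt (par s * par t) * Real.cos (ang (orderOf (rot s t)) j))) ∧
    (∀ i : Ch P, eig s t i ≠ 0 → (∃ r : ℚ, eig s t i = r) ∨
      ∃ j, 1 ≤ j ∧ 2 * j < orderOf (rot s t) ∧
        eig s t i = lam s t (Real.sqrt (par s * par t) * Real.cos (ang (orderOf (rot s t)) j))) := by
  classical
  obtain ⟨n, hn⟩ : ∃ n, n = orderOf (rot s t) := ⟨_, rfl⟩
  rw [← hn]
  obtain ⟨R, hR⟩ : ∃ R, R = (Finset.Ico 1 ((n + 1) / 2)).image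
      (fun j => lam s t (Real.sqrt (par s * par t) * Real.cos (ang n j))) := ⟨_, rfl⟩
  obtain ⟨D, hD⟩ : ∃ D : Finset ℝ, D = if Even n then
      {(par s + 1) * ((par s + 1) * par t + (par s + 2)),
        (par s + 1) * ((par s + 1) * (-1) + (par s + 2))}
      else {(par s + 1) * ((par s + 1) * par t + (par s + 2))} := ⟨_, rfl⟩
  have hsub : ((Finset.univ.image (eig s t)).filter fun l => l ≠ 0) ⊆ R ∪ D := by
    intro l hl
    obtain ⟨hl1, hl0⟩ := Finset.mem_filter.1 hl
    obtain ⟨i, -, rfl⟩ := Finset.mem_image.1 hl1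
    obtain ⟨c, hc, hcl⟩ := exists_isEig (vec_norm s t i) (zop_vec s t i) hl0
    rw [← hcl, Finset.mem_union]
    by_cases hdeg : ∃ μ : ℝ, Tm (gen t) *ᵥ vec s t i = μ • vec s t i
    · obtain ⟨μ, hμ⟩ := hdeg
      obtain ⟨hμ1, hμ2⟩ := hc.degenerate hμ
      have e : lam s t c = (par s + 1) * ((par s + 1) * μ + (par s + 2)) := by
        rw [← hμ2]; unfold lam; ring
      right
      rw [e, hD]
      split_ifs with hev
      · rcases hμ1 with rfl | rfl <;> simp
      · obtain ⟨m, hm⟩ := Nat.not_even_iff_odd.1 hev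
        rw [hc.degenerate_odd h (hn ▸ hm) hμ]
        simp
    · left
      obtain ⟨j, hj1, hj2, hj3, -⟩ := hc.quantum h (not_exists.1 hdeg)
      rw [← hn] at hj2 hj3
      rw [hR, Finset.mem_image]
      exact ⟨j, Finset.mem_Ico.2 ⟨hj1, by omega⟩, by rw [← hj3]⟩
  have heq : ((Finset.univ.image (eig s t)).filter fun l => l ≠ 0) = R ∪ D := by
    refine Finset.eq_of_subset_of_card_le hsub ((Finset.card_union_le _ _).trans ?_)
    have h1 : R.card ≤ (n + 1) / 2 - 1 := by
      rw [hR]; exact Finset.card_image_le.trans (by simp)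
    have h2 := card_eig h
    rw [← hn] at h2
    have h2n := two_le_orderOf_rot h
    rw [← hn] at h2n
    by_cases hev : Even n
    · rw [hD, if_pos hev]
      have h3 := Finset.card_le_two (a := (par s + 1) * ((par s + 1) * par t + (par s + 2)))
        (b := (par s + 1) * ((par s + 1) * (-1) + (par s + 2)))
      obtain ⟨m, hm⟩ := hev
      omega
    · rw [hD, if_neg hev, Finset.card_singleton]
      obtain ⟨m, hm⟩ := Nat.not_even_iff_odd.1 hev
      omega
  constructor
  · intro j hj1 hj2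
    have : lam s t (Real.sqrt (par s * par t) * Real.cos (ang n j)) ∈ R ∪ D :=
      Finset.mem_union_left _ (hR ▸ Finset.mem_image_of_mem _ (Finset.mem_Ico.2 ⟨hj1, by omega⟩))
    rw [← heq, Finset.mem_filter, Finset.mem_image] at this
    obtain ⟨⟨i, -, hi⟩, -⟩ := this
    exact ⟨i, hi⟩
  · intro i hi
    have : eig s t i ∈ R ∪ D := hsub (Finset.mem_filter.2
      ⟨Finset.mem_image_of_mem _ (Finset.mem_univ _), hi⟩)
    rcases Finset.mem_union.1 this with h' | h'
    · rw [hR, Finset.mem_image] at h'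
      obtain ⟨j, hj, hje⟩ := h'
      rw [Finset.mem_Ico] at hj
      exact Or.inr ⟨j, hj.1, by omega, hje.symm⟩
    · left
      have r1 : ∃ r : ℚ, (par s + 1) * ((par s + 1) * par t + (par s + 2)) = r :=
        ⟨((qs s : ℚ) + 1) * (((qs s : ℚ) + 1) * qs t + (qs s + 2)), by unfold par; push_cast; ring⟩
      have r2 : ∃ r : ℚ, (par s + 1) * ((par s + 1) * (-1) + (par s + 2)) = r :=
        ⟨((qs s : ℚ) + 1) * (((qs s : ℚ) + 1) * (-1) + (qs s + 2)), by unfold par; push_cast; ring⟩
      rw [hD] at h'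
      split_ifs at h' <;> simp only [Finset.mem_insert, Finset.mem_singleton] at h'
      · rcases h' with h' | h' <;> rw [h'] <;> assumption
      · rw [h']; exact r1

theorem cos_ang_compl {n m j : ℕ} (hn : n = 2 * m) (hj : j ≤ m) (hm : 1 ≤ m) :
    Real.cos (ang n (m - j)) = - Real.cos (ang n j) := by
  rw [← Real.cos_pi_sub]
  congr 1
  unfold ang
  subst hn
  rw [Nat.cast_sub hj]
  have : (m : ℝ) ≠ 0 := by exact_mod_cast (by omega : m ≠ 0)
  push_cast
  field_simp

/-- All principal parameters are rational. -/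
theorem param_rat {s t : P.S} (h : IsPair s t) {j : ℕ} (hj1 : 1 ≤ j)
    (hj2 : 2 * j < orderOf (rot s t)) :
    ∃ r : ℚ, Real.sqrt (par s * par t) * Real.cos (ang (orderOf (rot s t)) j) = r := by
  classical
  obtain ⟨n, hn⟩ : ∃ n, n = orderOf (rot s t) := ⟨_, rfl⟩
  rw [← hn] at hj2 ⊢
  have ha := two_le_par s
  have hb := two_le_par t
  obtain ⟨p, hp⟩ : ∃ p, p = par s * par t := ⟨_, rfl⟩
  rw [← hp]
  obtain ⟨A, hA⟩ : ∃ A : ℚ, (A : ℝ) = (par s + 1) * (par s + par t + 1) :=
    ⟨((qs s : ℚ) + 1) * (qs s + qs t + 1), by unfold par; push_cast; ring⟩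
  obtain ⟨B, hB⟩ : ∃ B : ℚ, (B : ℝ) = 2 * (par s + 1) :=
    ⟨2 * ((qs s : ℚ) + 1), by unfold par; push_cast; ring⟩
  have hB0 : (B : ℝ) ≠ 0 := by rw [hB]; linarith
  have hlam : ∀ c, lam s t c = A + B * c := fun c => by rw [hA, hB]; unfold lam; ring
  obtain ⟨c, hc⟩ : ∃ c, c = Real.sqrt p * Real.cos (ang n j) := ⟨_, rfl⟩
  rw [← hc]
  by_contra hirr
  obtain ⟨hocc, hcases⟩ := spectrum_eq h
  rw [← hn, ← hp] at hocc hcases
  have hirr' : ∀ x : ℝ, (¬ ∃ r : ℚ, x = r) → ¬ ∃ r : ℚ, (A : ℝ) + B * x = r := by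
    rintro x hx ⟨r, hr⟩
    exact hx ⟨(r - A) / B, by push_cast; rw [← hr]; field_simp; ring⟩
  obtain ⟨i, hi⟩ := hocc j hj1 hj2
  rw [← hc, hlam] at hi
  obtain ⟨q, hq0, hq⟩ := exists_charpoly_rat s t
  obtain ⟨k, hk, hconj⟩ := exists_conj hq i (by rw [hi]; exact hirr' c hirr)
  have hrat : ¬ ∃ r : ℚ, eig s t k = r := by
    rintro ⟨r, hr⟩
    exact hirr' c hirr ⟨r, by rw [← hi]; exact hconj.rat_eq hr⟩
  have hk0 : eig s t k ≠ 0 := fun e => hrat ⟨0, by simp [e]⟩
  obtain ⟨j', hj1', hj2', hje⟩ := (hcases k hk0).resolve_left hrat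
  obtain ⟨c', hc'⟩ : ∃ c', c' = Real.sqrt p * Real.cos (ang n j') := ⟨_, rfl⟩
  rw [← hc', hlam] at hje
  rw [hi, hje] at hconj hk
  have hp0 : 0 < p := hp ▸ mul_pos (par_pos s) (par_pos t)
  have hsq : ∀ l, 1 ≤ l → 2 * l < n → (Real.sqrt p * Real.cos (ang n l)) ^ 2 < p := by
    intro l h1 h2
    rw [mul_pow, Real.sq_sqrt hp0.le]
    exact mul_lt_of_lt_one_right hp0 (cos_ang_sq_lt_one h1 h2)
  have key : ∀ l l', 1 ≤ l → 2 * l < n → 1 ≤ l' → 2 * l' < n → ∀ x x',
      x = Real.sqrt p * Real.cos (ang n l) → x' = Real.sqrt p * Real.cos (ang n l') →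
      Conj ((A : ℝ) + B * x) ((A : ℝ) + B * x') →
      num (par s) (par t) x * (p - x' ^ 2) = num (par s) (par t) x' * (p - x ^ 2) := by
    intro l l' hl1 hl2 hl1' hl2' x x' hx hx' hxx
    have hm := mult_eq_of_conj s t hxx
    have hcalc : ∀ l, 1 ≤ l → 2 * l < n → ∀ x, x = Real.sqrt p * Real.cos (ang n l) →
        ∃ S : ℝ, (mult s t ((A : ℝ) + B * x) : ℝ) * S = Fintype.card (Ch P) ∧
          4 * (p - x ^ 2) * S = n * num (par s) (par t) x := by
      intro l hl1 hl2 x hx
      obtain ⟨i, hi⟩ := hocc l hl1 hl2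
      rw [← hx] at hi
      have hne : eig s t i ≠ 0 := by
        have h2 := hsq l hl1 hl2
        rw [← hx, hp] at h2
        rw [hi]
        unfold lam
        refine (mul_pos (by linarith) ?_).ne'
        nlinarith [sq_nonneg (par s - par t)]
      obtain ⟨x', hx', hxl⟩ := exists_isEig (vec_norm s t i) (zop_vec s t i) hne
      obtain rfl : x' = x := lam_inj (hxl.trans hi)
      have hnd : ∀ μ : ℝ, Tm (gen t) *ᵥ vec s t i ≠ μ • vec s t i := fun μ hμ =>
        hx'.sq_lt_of_nondeg hμ (by rw [← hp, hx]; exact hsq l hl1 hl2)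
      obtain ⟨_, -, -, -, hS⟩ := hx'.quantum h hnd
      rw [← hn, ← hp] at hS
      refine ⟨_, ?_, hS⟩
      rw [← hlam, ← hi]
      exact mult_mul_schur h hne
    obtain ⟨S, hS1, hS2⟩ := hcalc l hl1 hl2 x hx
    obtain ⟨S', hS1', hS2'⟩ := hcalc l' hl1' hl2' x' hx'
    rw [← hm] at hS1'
    have hN : (0 : ℝ) < Fintype.card (Ch P) := by
      haveI : Nonempty (Ch P) := ⟨QuotientGroup.mk (1 : G)⟩
      exact_mod_cast Fintype.card_pos
    have hm0 : (mult s t ((A : ℝ) + B * x) : ℝ) ≠ 0 := fun e => by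
      rw [e, zero_mul] at hS1; linarith
    have hSS : S = S' := mul_left_cancel₀ hm0 (hS1.trans hS1'.symm)
    subst hSS
    have hn0 : (n : ℝ) ≠ 0 := by exact_mod_cast (by omega : n ≠ 0)
    apply mul_left_cancel₀ hn0
    linear_combination (p - x ^ 2) * hS2' - (p - x' ^ 2) * hS2
  have hne : c ≠ c' := fun e => hk (by rw [e])
  have hmain := key j j' hj1 hj2 hj1' hj2' c c' hc hc' hconj
  unfold num at hmain
  rcases Nat.even_or_odd' n with ⟨m, hm | hm⟩
  · have hneg : Conj ((A : ℝ) + B * -c) ((A : ℝ) + B * -c') := by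
      have := hconj.affine (2 * A) (-1)
      push_cast at this
      convert this using 1 <;> ring
    have hmain' := key (m - j) (m - j') (by omega) (by omega) (by omega) (by omega) (-c) (-c')
      (by rw [cos_ang_compl hm (by omega) (by omega), hc]; ring)
      (by rw [cos_ang_compl hm (by omega) (by omega), hc']; ring) hneg
    unfold num at hmain'
    have h4 : 0 < (par s + par t) * (1 + p) - 4 * p := by
      nlinarith [sq_nonneg (p - 1), sq_nonneg (par s - par t)]
    have h1 : (c ^ 2 - c' ^ 2) * ((par s + par t) * (1 + p) - 4 * p) = 0 := by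
      rw [hp] at hmain hmain' ⊢
      linear_combination (1 / 2 : ℝ) * (hmain + hmain')
    have h2 : (c - c') * (c + c') = 0 := by
      linear_combination (mul_eq_zero.1 h1).resolve_right h4.ne'
    have h3 : c' = -c := by
      have := (mul_eq_zero.1 h2).resolve_left (sub_ne_zero.2 hne)
      linarith
    rw [hp] at hmain hmain'
    rw [h3] at hmain hmain'
    have h5 : c * ((par s - 1) * (par t - 1)) * (par s * par t - c ^ 2) = 0 := by
      linear_combination (1 / 8 : ℝ) * (hmain - hmain')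
    have h6 : (par s - 1) * (par t - 1) ≠ 0 :=
      (mul_pos (by linarith) (by linarith)).ne'
    have h7 : par s * par t - c ^ 2 ≠ 0 := by
      have := hsq j hj1 hj2
      rw [← hc, hp] at this
      exact (sub_pos.2 this).ne'
    have h8 : c = 0 := by
      rcases mul_eq_zero.1 h5 with h' | h'
      · exact (mul_eq_zero.1 h').resolve_right h6
      · exact absurd h' h7
    exact hne (by rw [h3, h8, neg_zero])
  · obtain ⟨-, hq'⟩ := braid_odd h (hn ▸ hm)
    have hq'' : par t = par s := hq'.symm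
    rw [hp, hq''] at hmain
    have h2 : ∀ l, 1 ≤ l → 2 * l < n → 0 < par s + Real.sqrt p * Real.cos (ang n l) := by
      intro l h1 h2
      have h3 := hsq l h1 h2
      rw [hp, hq''] at h3 ⊢
      nlinarith
    have e1 := h2 j hj1 hj2
    have e2 := h2 j' hj1' hj2'
    rw [← hc] at e1
    rw [← hc'] at e2
    have h1 : (c' - c) * ((par s + c) * (par s + c') * (par s - 1) ^ 2) = 0 := by
      linear_combination (-1 / 2 : ℝ) * hmain
    refine hne ((sub_eq_zero.1 ((mul_eq_zero.1 h1).resolve_right ?_)).symm)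
    exact (mul_pos (mul_pos e1 e2) (pow_pos (by linarith) 2)).ne'

theorem feit_higman {s t : P.S} (h : IsPair s t) :
    orderOf (rot s t) ∈ ({2, 3, 4, 6, 8} : Set ℕ) := by
  obtain ⟨n, hn⟩ : ∃ n, n = orderOf (rot s t) := ⟨_, rfl⟩
  rw [← hn]
  have hn2 : 2 ≤ n := hn ▸ two_le_orderOf_rot h
  rcases Nat.lt_or_ge n 3 with h3 | h3
  · have : n = 2 := by omega
    simp [this]
  obtain ⟨r1, hr1⟩ := param_rat h (j := 1) le_rfl (by rw [← hn]; omega)
  rw [← hn] at hr1
  have hp0 : 0 < par s * par t := mul_pos (par_pos s) (par_pos t)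
  rcases Nat.even_or_odd' n with ⟨m, hm | hm⟩
  · subst hm
    have hm2 : 2 ≤ m := by omega
    have hmR : (0 : ℝ) < m := by exact_mod_cast (by omega : 0 < m)
    have hang : (((2 / m : ℚ)) : ℝ) * Real.pi = 2 * ang (2 * m) 1 := by
      unfold ang; push_cast; field_simp
    have hcos : ∃ q : ℚ, Real.cos ((((2 / m : ℚ)) : ℝ) * Real.pi) = q := by
      refine ⟨2 * r1 ^ 2 / ((qs s : ℚ) * qs t) - 1, ?_⟩
      rw [hang, Real.cos_two_mul]
      push_cast
      rw [← hr1, mul_pow, Real.sq_sqrt hp0.le]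
      show _ = 2 * (par s * par t * _) / (par s * par t) - 1
      rw [mul_left_comm (2 : ℝ), mul_div_cancel_left₀ _ hp0.ne']
    have hb : (2 / m : ℚ) ∈ Set.Icc 0 1 :=
      ⟨by positivity, by rw [div_le_one (by positivity)]; exact_mod_cast hm2⟩
    have hmQ : (m : ℚ) ≠ 0 := by exact_mod_cast (by omega : m ≠ 0)
    rcases niven_angle_div_pi_eq hcos hb with h' | h' | h' | h' | h'
    · simp [hmQ] at h'
    · exfalso
      have : m = 6 := by
        field_simp at h'
        exact_mod_cast (by linarith : (m : ℚ) = 6)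
      subst this
      obtain ⟨r2, hr2⟩ := param_rat h (j := 2) (by norm_num) (by rw [← hn]; omega)
      rw [← hn] at hr2
      have e1 : ang (2 * 6) 1 = Real.pi / 6 := by unfold ang; push_cast; ring
      have e2 : ang (2 * 6) 2 = Real.pi / 3 := by unfold ang; push_cast; ring
      rw [e1, Real.cos_pi_div_six] at hr1
      rw [e2, Real.cos_pi_div_three] at hr2
      have hsp : Real.sqrt (par s * par t) ≠ 0 := (Real.sqrt_pos.2 hp0).ne'
      refine (Nat.Prime.irrational_sqrt Nat.prime_three) ⟨r1 / r2, ?_⟩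
      push_cast
      rw [← hr1, ← hr2]
      field_simp
    · have : m = 4 := by
        field_simp at h'
        exact_mod_cast (by linarith : (m : ℚ) = 4)
      simp [this]
    · have : m = 3 := by
        field_simp at h'
        exact_mod_cast (by linarith : (m : ℚ) = 3)
      simp [this]
    · have : m = 2 := by
        rw [Set.mem_singleton_iff] at h'
        field_simp at h'
        exact_mod_cast (by linarith : (m : ℚ) = 2)
      simp [this]
  · obtain ⟨-, hq⟩ := braid_odd h (hn ▸ hm)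
    have hq' : par t = par s := hq.symm
    rw [hq', Real.sqrt_mul_self (par_pos s).le] at hr1
    have hnR : (0 : ℝ) < n := by exact_mod_cast (by omega : 0 < n)
    have hcos : ∃ q : ℚ, Real.cos ((((2 / n : ℚ)) : ℝ) * Real.pi) = q := by
      refine ⟨r1 / qs s, ?_⟩
      have hang : (((2 / n : ℚ)) : ℝ) * Real.pi = ang n 1 := by
        unfold ang; push_cast; field_simp
      rw [hang]
      push_cast
      rw [← hr1]
      show _ = par s * _ / par s
      field_simp [(par_pos s).ne']
    have hb : (2 / n : ℚ) ∈ Set.Icc 0 1 :=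
      ⟨by positivity, by rw [div_le_one (by positivity)]; exact_mod_cast hn2⟩
    have hnQ : (n : ℚ) ≠ 0 := by exact_mod_cast (by omega : n ≠ 0)
    rcases niven_angle_div_pi_eq hcos hb with h' | h' | h' | h' | h'
    · simp [hnQ] at h'
    all_goals try rw [Set.mem_singleton_iff] at h'
    all_goals field_simp at h'
    · have : n = 6 := by exact_mod_cast (by linarith : (n : ℚ) = 6)
      omega
    · have : n = 4 := by exact_mod_cast (by linarith : (n : ℚ) = 4)
      omega
    · have : n = 3 := by exact_mod_cast (by linarith : (n : ℚ) = 3)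
      simp [this]
    · have : n = 2 := by exact_mod_cast (by linarith : (n : ℚ) = 2)
      omega

end Cfsg.Agent.BN.FeitHigman
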